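import Groth.Agent.Cubic.K656.Trilin
import Mathlib.Algebra.CharZero.Infinite
import Mathlib.Algebra.Polynomial.Derivative
import Mathlib.Algebra.Polynomial.Roots
import Mathlib.FieldTheory.IsAlgClosed.Basic
import Mathlib.RingTheory.Derivation.Basic

/-!
# Rational quartics on a cubic threefold: the form `G`

`T` symmetric trilinear form, `c : Fin 5 → V` (coefficients of the curve `cv c x = ∑ x^m c_m`) with
`T (c x) (c x) (c x) = 0`. Then `T (c x) (c x) (c z) = (x - z)² (α x + β x z + γ x z²)`.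
-/

set_option autoImplicit false

universe u v

namespace K304.ChordBase

open Polynomial K656.Trilin

variable {L : Type u} [Field L] {V : Type v} [AddCommGroup V] [Module L V]

/-- the point with parameter `x` -/
def cv (c : Fin 5 → V) (x : L) : V := ∑ m : Fin 5, x ^ (m : ℕ) • c m

theorem cv_eq (c : Fin 5 → V) (x : L) :
    cv c x = c 0 + x • c 1 + x ^ 2 • c 2 + x ^ 3 • c 3 + x ^ 4 • c 4 := by
  simp [cv, Fin.sum_univ_five]

/-- the derivative -/
def der (c : Fin 5 → V) : Fin 5 → V := ![c 1, (2 : ℕ) • c 2, (3 : ℕ) • c 3, (4 : ℕ) • c 4, 0]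

theorem cv_der (c : Fin 5 → V) (x : L) :
    cv (der c) x = c 1 + (2 * x) • c 2 + (3 * x ^ 2) • c 3 + (4 * x ^ 3) • c 4 := by
  rw [cv_eq]
  simp only [der, Matrix.cons_val]
  module

theorem cv_der' (c : Fin 5 → V) (x : L) :
    cv (der c) x = ∑ m : Fin 5, (derivative ((X : L[X]) ^ (m : ℕ))).eval x • c m := by
  rw [cv_der, Fin.sum_univ_five]
  simp
  norm_num

variable (T : V →ₗ[L] V →ₗ[L] V →ₗ[L] L)

/-- the polynomial `T (a x) (b x) (d x)` -/
noncomputable def tp (a b d : Fin 5 → V) : L[X] :=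
  ∑ i : Fin 5, ∑ j : Fin 5, ∑ l : Fin 5, C (T (a i) (b j) (d l)) * (X ^ (i : ℕ) * (X ^ (j : ℕ) * X ^ (l : ℕ)))

variable {T}

theorem tri_sum (f g h : Fin 5 → L) (a b d : Fin 5 → V) :
    T (∑ i, f i • a i) (∑ j, g j • b j) (∑ l, h l • d l) =
      ∑ i, ∑ j, ∑ l, T (a i) (b j) (d l) * (f i * (g j * h l)) := by
  rw [map_sum T, LinearMap.sum_apply, LinearMap.sum_apply]
  refine Finset.sum_congr rfl fun i _ => ?_
  rw [map_smul, LinearMap.smul_apply, LinearMap.smul_apply, map_sum (T (a i)), LinearMap.sum_apply,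
    Finset.smul_sum]
  refine Finset.sum_congr rfl fun j _ => ?_
  rw [map_smul, LinearMap.smul_apply, map_sum (T (a i) (b j)), Finset.smul_sum, Finset.smul_sum]
  refine Finset.sum_congr rfl fun l _ => ?_
  simp only [map_smul, smul_eq_mul]
  ring

theorem eval_tp (a b d : Fin 5 → V) (x : L) :
    (tp T a b d).eval x = T (cv a x) (cv b x) (cv d x) := by
  simp only [tp, cv, tri_sum, eval_finsetSum, eval_mul, eval_C, eval_pow, eval_X]

/-- Leibniz rule. -/
theorem eval_derivative_tp (a b d : Fin 5 → V) (x : L) :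
    (derivative (tp T a b d)).eval x = T (cv (der a) x) (cv b x) (cv d x) +
      T (cv a x) (cv (der b) x) (cv d x) + T (cv a x) (cv b x) (cv (der d) x) := by
  rw [cv_der', cv_der', cv_der']
  simp only [cv, tri_sum]
  simp only [tp, derivative_sum, derivative_mul, derivative_C, zero_mul, zero_add, eval_finsetSum, eval_mul,
    eval_add, eval_C, eval_pow, eval_X, ← Finset.sum_add_distrib]
  refine Finset.sum_congr rfl fun i _ => Finset.sum_congr rfl fun j _ => Finset.sum_congr rfl fun l _ => ?_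
  ring

theorem leib [Infinite L] {a b d : Fin 5 → V} {f : L[X]} (h : ∀ x, T (cv a x) (cv b x) (cv d x) = f.eval x)
    (x : L) : T (cv (der a) x) (cv b x) (cv d x) +
      T (cv a x) (cv (der b) x) (cv d x) + T (cv a x) (cv b x) (cv (der d) x) = (derivative f).eval x := by
  rw [← eval_derivative_tp]
  have : tp T a b d = f := Polynomial.funext fun x => by rw [eval_tp, h]
  rw [this]

theorem leib0 [Infinite L] {a b d : Fin 5 → V} (h : ∀ x : L, T (cv a x) (cv b x) (cv d x) = 0)
    (x : L) : T (cv (der a) x) (cv b x) (cv d x) +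
      T (cv a x) (cv (der b) x) (cv d x) + T (cv a x) (cv b x) (cv (der d) x) = 0 := by
  have := leib (f := 0) (a := a) (b := b) (d := d) (T := T) (by simpa using h) x
  simpa using this

/-- constant family -/
def ct (w : V) : Fin 5 → V := ![w, 0, 0, 0, 0]

theorem cv_ct (w : V) (x : L) : cv (ct w) x = w := by
  rw [cv_eq]; simp [ct]

theorem cv_der_ct (w : V) (x : L) : cv (der (ct w)) x = 0 := by
  rw [cv_der]; simp [ct]

variable (T) in
/-- the polynomial `T (c x) (c x) w` -/
noncomputable def lam (c : Fin 5 → V) (w : V) : L[X] := tp T c c (ct w)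

theorem eval_lam (c : Fin 5 → V) (w : V) (x : L) : (lam T c w).eval x = T (cv c x) (cv c x) w := by
  rw [lam, eval_tp, cv_ct]

theorem eval_derivative_lam (hT : IsSym3 T) (c : Fin 5 → V) (w : V) (x : L) :
    (derivative (lam T c w)).eval x = 2 * T (cv c x) (cv (der c) x) w := by
  rw [lam, eval_derivative_tp, cv_ct, cv_der_ct, hT.s12 (cv (der c) x)]
  simp
  ring

theorem lam_eq (c : Fin 5 → V) (w : V) : lam T c w =
    ∑ i : Fin 5, ∑ j : Fin 5, C (T (c i) (c j) w) * (X ^ (i : ℕ) * X ^ (j : ℕ)) := by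
  simp only [lam, tp]
  refine Finset.sum_congr rfl fun i _ => Finset.sum_congr rfl fun j _ => ?_
  rw [Fin.sum_univ_five]
  simp [ct]

theorem natDegree_lam (c : Fin 5 → V) (w : V) : (lam T c w).natDegree ≤ 8 := by
  rw [lam_eq]
  refine natDegree_sum_le_of_forall_le _ _ fun i _ => natDegree_sum_le_of_forall_le _ _ fun j _ => ?_
  rw [← pow_add]
  refine (natDegree_C_mul_X_pow_le _ _).trans ?_
  omega

theorem coeff_lam (c : Fin 5 → V) (w : V) (n : ℕ) : (lam T c w).coeff n =
    ∑ i : Fin 5, ∑ j : Fin 5, if n = (i : ℕ) + j then T (c i) (c j) w else 0 := by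
  rw [lam_eq]
  simp only [finsetSum_coeff, ← pow_add, coeff_C_mul, coeff_X_pow, mul_ite, mul_one, mul_zero]

theorem coeff_lam_eight (c : Fin 5 → V) (w : V) : (lam T c w).coeff 8 = T (c 4) (c 4) w := by
  rw [coeff_lam]
  simp [Fin.sum_univ_five]

theorem coeff_lam_seven (hT : IsSym3 T) (c : Fin 5 → V) (w : V) :
    (lam T c w).coeff 7 = 2 * T (c 3) (c 4) w := by
  rw [coeff_lam]
  simp [Fin.sum_univ_five]
  rw [hT.s12 (c 4) (c 3)]
  ring

theorem coeff_lam_six (hT : IsSym3 T) (c : Fin 5 → V) (w : V) :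
    (lam T c w).coeff 6 = 2 * T (c 2) (c 4) w + T (c 3) (c 3) w := by
  rw [coeff_lam]
  simp [Fin.sum_univ_five]
  rw [hT.s12 (c 4) (c 2)]
  ring

/-! ### The curve on the cubic -/

section Curve

variable (T)

noncomputable def al (c : Fin 5 → V) : L[X] :=
  lam T c (c 2) + C 2 * (X * lam T c (c 3)) + C 3 * (X ^ 2 * lam T c (c 4))

noncomputable def be (c : Fin 5 → V) : L[X] := lam T c (c 3) + C 2 * (X * lam T c (c 4))

noncomputable def ga (c : Fin 5 → V) : L[X] := lam T c (c 4)

/-- `G x z = α x + β x z + γ x z²` -/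
noncomputable def G (c : Fin 5 → V) (x z : L) : L :=
  (al T c).eval x + (be T c).eval x * z + (ga T c).eval x * z ^ 2

/-- `∂G/∂x` -/
noncomputable def Gx (c : Fin 5 → V) (x z : L) : L :=
  (derivative (al T c)).eval x + (derivative (be T c)).eval x * z + (derivative (ga T c)).eval x * z ^ 2

/-- `∂G/∂z` -/
noncomputable def Gz (c : Fin 5 → V) (x z : L) : L := (be T c).eval x + 2 * (ga T c).eval x * z

variable {T}

variable [CharZero L] (hT : IsSym3 T) {c : Fin 5 → V} (h0 : ∀ x : L, T (cv c x) (cv c x) (cv c x) = 0)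
include hT h0

theorem T_ccc' (x : L) : T (cv c x) (cv c x) (cv (der c) x) = 0 := by
  have h := leib0 h0 x
  rw [hT.rot (cv (der c) x), hT.s23 (cv c x) (cv (der c) x)] at h
  have h3 : (3 : L) ≠ 0 := by norm_num
  apply mul_left_cancel₀ h3
  linear_combination h

theorem T_cc'c (x : L) : T (cv c x) (cv (der c) x) (cv c x) = 0 := by
  rw [hT.s23]; exact T_ccc' hT h0 x

/-- `T c c' c' = - T c c c''/2` -/
theorem T_cc'c' (x : L) :
    2 * T (cv c x) (cv (der c) x) (cv (der c) x) + T (cv c x) (cv c x) (cv (der (der c)) x) = 0 := by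
  have h := leib0 (T_ccc' hT h0) x
  rw [hT.s12 (cv (der c) x) (cv c x)] at h
  linear_combination h

theorem lam0 : lam T c (c 0) = X ^ 2 * al T c := by
  refine Polynomial.funext fun x => ?_
  have h1 := h0 x
  have h2 := T_ccc' hT h0 x
  nth_rw 3 [cv_eq] at h1
  rw [cv_der] at h2
  simp only [map_add, map_smul, smul_eq_mul] at h1 h2
  simp only [al, eval_mul, eval_add, eval_pow, eval_X, eval_C, eval_lam]
  linear_combination h1 - x * h2

theorem lam1 : lam T c (c 1) = X ^ 2 * be T c - C 2 * (X * al T c) := by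
  refine Polynomial.funext fun x => ?_
  have h2 := T_ccc' hT h0 x
  rw [cv_der] at h2
  simp only [map_add, map_smul, smul_eq_mul] at h2
  simp only [al, be, eval_mul, eval_add, eval_sub, eval_pow, eval_X, eval_C, eval_lam]
  linear_combination h2

omit [CharZero L] hT h0 in
theorem lam2 [Infinite L] (c : Fin 5 → V) :
    lam T c (c 2) = X ^ 2 * ga T c - C 2 * (X * be T c) + al T c := by
  refine Polynomial.funext fun x => ?_
  simp only [al, be, ga, eval_mul, eval_add, eval_sub, eval_pow, eval_X, eval_C, eval_lam]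
  ring

omit [CharZero L] hT h0 in
theorem lam3 (c : Fin 5 → V) : lam T c (c 3) = be T c - C 2 * (X * ga T c) := by
  simp only [be, ga]
  ring

theorem e0 (x : L) : T (cv c x) (cv c x) (c 0) = x ^ 2 * (al T c).eval x := by
  rw [← eval_lam, lam0 hT h0]; simp

theorem e1 (x : L) : T (cv c x) (cv c x) (c 1) = x ^ 2 * (be T c).eval x - 2 * x * (al T c).eval x := by
  rw [← eval_lam, lam1 hT h0]; simp; ring

omit [CharZero L] hT h0 in
theorem e2 [Infinite L] (c : Fin 5 → V) (x : L) : T (cv c x) (cv c x) (c 2) =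
    x ^ 2 * (ga T c).eval x - 2 * x * (be T c).eval x + (al T c).eval x := by
  rw [← eval_lam, lam2]; simp; ring

omit [CharZero L] hT h0 in
theorem e3 (c : Fin 5 → V) (x : L) :
    T (cv c x) (cv c x) (c 3) = (be T c).eval x - 2 * x * (ga T c).eval x := by
  rw [← eval_lam, lam3]; simp; ring

omit [CharZero L] hT h0 in
theorem e4 (c : Fin 5 → V) (x : L) : T (cv c x) (cv c x) (c 4) = (ga T c).eval x := by
  rw [← eval_lam]; rfl

theorem T_ccz (x z : L) : T (cv c x) (cv c x) (cv c z) = (x - z) ^ 2 * G T c x z := by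
  rw [cv_eq c z]
  simp only [map_add, map_smul, smul_eq_mul, e0 hT h0, e1 hT h0, e2, e3, e4, G]
  ring

theorem T_ccz' (x z : L) : T (cv c x) (cv c x) (cv (der c) z) =
    (x - z) ^ 2 * Gz T c x z - 2 * (x - z) * G T c x z := by
  rw [cv_der c z]
  simp only [map_add, map_smul, smul_eq_mul, e0 hT h0, e1 hT h0, e2, e3, e4, G, Gz]
  ring

theorem e0' (x : L) : 2 * T (cv c x) (cv (der c) x) (c 0) =
    x ^ 2 * (derivative (al T c)).eval x + 2 * x * (al T c).eval x := by
  rw [← eval_derivative_lam hT, lam0 hT h0]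
  simp
  ring

theorem e1' (x : L) : 2 * T (cv c x) (cv (der c) x) (c 1) =
    x ^ 2 * (derivative (be T c)).eval x + 2 * x * (be T c).eval x - 2 * x * (derivative (al T c)).eval x
      - 2 * (al T c).eval x := by
  rw [← eval_derivative_lam hT, lam1 hT h0]
  simp
  ring

omit h0 in
theorem e2' (c : Fin 5 → V) (x : L) : 2 * T (cv c x) (cv (der c) x) (c 2) =
    x ^ 2 * (derivative (ga T c)).eval x + 2 * x * (ga T c).eval x - 2 * x * (derivative (be T c)).eval x
      - 2 * (be T c).eval x + (derivative (al T c)).eval x := by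
  rw [← eval_derivative_lam hT, lam2]
  simp
  ring

omit [CharZero L] h0 in
theorem e3' (c : Fin 5 → V) (x : L) : 2 * T (cv c x) (cv (der c) x) (c 3) =
    (derivative (be T c)).eval x - 2 * x * (derivative (ga T c)).eval x - 2 * (ga T c).eval x := by
  rw [← eval_derivative_lam hT, lam3]
  simp
  ring

omit [CharZero L] h0 in
theorem e4' (c : Fin 5 → V) (x : L) : 2 * T (cv c x) (cv (der c) x) (c 4) =
    (derivative (ga T c)).eval x := by
  rw [← eval_derivative_lam hT]; rfl

theorem T_cc'z (x z : L) : 2 * T (cv c x) (cv (der c) x) (cv c z) =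
    (x - z) ^ 2 * Gx T c x z + 2 * (x - z) * G T c x z := by
  rw [cv_eq c z]
  simp only [map_add, map_smul, smul_eq_mul]
  have a0 := e0' hT h0 x
  have a1 := e1' hT h0 x
  have a2 := e2' hT c x
  have a3 := e3' hT c x
  have a4 := e4' hT c x
  simp only [G, Gx]
  linear_combination a0 + z * a1 + z ^ 2 * a2 + z ^ 3 * a3 + z ^ 4 * a4

/-! degrees -/

theorem natDegree_al : (al T c).natDegree ≤ 6 := by
  by_cases h : al T c = 0
  · simp [h]
  · have h1 := natDegree_lam (T := T) c (c 0)
    rw [lam0 hT h0, natDegree_mul (pow_ne_zero _ X_ne_zero) h, natDegree_X_pow] at h1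
    omega

theorem natDegree_be : (be T c).natDegree ≤ 6 := by
  by_cases h : be T c = 0
  · simp [h]
  · have h1 : (X ^ 2 * be T c).natDegree ≤ 8 := by
      have e : X ^ 2 * be T c = lam T c (c 1) + C 2 * (X * al T c) := by
        rw [lam1 hT h0]; ring
      rw [e]
      refine natDegree_add_le_of_degree_le (natDegree_lam _ _) ?_
      have := natDegree_al hT h0
      compute_degree
      omega
    rw [natDegree_mul (pow_ne_zero _ X_ne_zero) h, natDegree_X_pow] at h1
    omega

theorem natDegree_ga : (ga T c).natDegree ≤ 6 := by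
  by_cases h : ga T c = 0
  · simp [h]
  · have h1 : (X ^ 2 * ga T c).natDegree ≤ 8 := by
      have e : X ^ 2 * ga T c = lam T c (c 2) + C 2 * (X * be T c) - al T c := by
        rw [lam2]; ring
      rw [e]
      have := natDegree_al hT h0
      have := natDegree_be hT h0
      refine (natDegree_sub_le_of_le (natDegree_add_le_of_degree_le (natDegree_lam _ _) ?_)
        (natDegree_al hT h0)).trans (by norm_num)
      compute_degree
      omega
    rw [natDegree_mul (pow_ne_zero _ X_ne_zero) h, natDegree_X_pow] at h1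
    omega

end Curve

end K304.ChordBase
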