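import Groth.Agent.Fano.K304.ChordBase
import Mathlib.Algebra.MvPolynomial.PDeriv

/-!
# Trilinear forms over algebras, coefficients of `T (c x) (c x) (v x)`
-/

set_option autoImplicit false
set_option linter.unusedSimpArgs false

universe u v w

namespace K304.ChordNat

open K656.Trilin K304.ChordBase

variable {k : Type u} [Field k] (T : (Fin 5 → k) →ₗ[k] (Fin 5 → k) →ₗ[k] (Fin 5 → k) →ₗ[k] k)

/-- base change of `T`, as a function -/
def TR {K : Type v} [CommRing K] [Algebra k K] (u v w : Fin 5 → K) : K :=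
  ∑ i, ∑ j, ∑ l, algebraMap k K (T (Pi.single i 1) (Pi.single j 1) (Pi.single l 1)) * (u i * (v j * w l))

theorem TR_eq (u v w : Fin 5 → k) : TR T u v w = T u v w := by
  conv_rhs => rw [pi_eq_sum_univ' u, pi_eq_sum_univ' v, pi_eq_sum_univ' w]
  rw [tri_sum]
  rfl

section

variable {K : Type v} [CommRing K] [Algebra k K] {K' : Type w} [CommRing K'] [Algebra k K']

theorem map_TR (φ : K →ₐ[k] K') (u v w : Fin 5 → K) :
    φ (TR T u v w) = TR T (fun i => φ (u i)) (fun i => φ (v i)) (fun i => φ (w i)) := by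
  simp only [TR, map_sum, map_mul, AlgHom.commutes]

theorem TR_add1 (u u' v w : Fin 5 → K) : TR T (u + u') v w = TR T u v w + TR T u' v w := by
  simp only [TR, ← Finset.sum_add_distrib, Pi.add_apply]
  exact Finset.sum_congr rfl fun i _ => Finset.sum_congr rfl fun j _ => Finset.sum_congr rfl fun l _ => by ring

/-- the curve -/
def cvR (c : Fin 5 → Fin 5 → K) (x : K) : Fin 5 → K := fun j => ∑ m : Fin 5, x ^ (m : ℕ) * c m j

def dvR (c : Fin 5 → Fin 5 → K) (x : K) : Fin 5 → K := fun j =>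
  c 1 j + 2 * x * c 2 j + 3 * x ^ 2 * c 3 j + 4 * x ^ 3 * c 4 j

theorem map_cvR (φ : K →ₐ[k] K') (c : Fin 5 → Fin 5 → K) (x : K) (j : Fin 5) :
    φ (cvR c x j) = cvR (fun m j => φ (c m j)) (φ x) j := by
  simp only [cvR, map_sum, map_mul, map_pow]

theorem map_dvR (φ : K →ₐ[k] K') (c : Fin 5 → Fin 5 → K) (x : K) (j : Fin 5) :
    φ (dvR c x j) = dvR (fun m j => φ (c m j)) (φ x) j := by
  simp only [dvR, map_add, map_mul, map_pow, map_ofNat]

end

section

variable {L : Type v} [Field L] [Algebra k L]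

/-- base change of `T` -/
noncomputable def TL (L : Type v) [Field L] [Algebra k L] :
    (Fin 5 → L) →ₗ[L] (Fin 5 → L) →ₗ[L] (Fin 5 → L) →ₗ[L] L :=
  ∑ i, ∑ j, ∑ l, algebraMap k L (T (Pi.single i 1) (Pi.single j 1) (Pi.single l 1)) •
    ((LinearMap.proj i : (Fin 5 → L) →ₗ[L] L).smulRight
      ((LinearMap.proj j : (Fin 5 → L) →ₗ[L] L).smulRight (LinearMap.proj l : (Fin 5 → L) →ₗ[L] L)))

theorem TL_apply (u v w : Fin 5 → L) : TL T L u v w = TR T u v w := by
  simp only [TL, TR, LinearMap.sum_apply, LinearMap.smul_apply, LinearMap.smulRight_apply,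
    LinearMap.proj_apply, smul_eq_mul, mul_assoc]

variable {T} in
theorem TL_sym (hT : IsSym3 T) : IsSym3 (TL T L) where
  s12 u v w := by
    rw [TL_apply, TL_apply, TR, TR, Finset.sum_comm]
    refine Finset.sum_congr rfl fun i _ => Finset.sum_congr rfl fun j _ => Finset.sum_congr rfl fun l _ => ?_
    rw [hT.s12]; ring
  s23 u v w := by
    rw [TL_apply, TL_apply, TR, TR]
    refine Finset.sum_congr rfl fun i _ => ?_
    rw [Finset.sum_comm]
    refine Finset.sum_congr rfl fun j _ => Finset.sum_congr rfl fun l _ => ?_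
    rw [hT.s23]; ring

theorem cv_eq_cvR (c : Fin 5 → Fin 5 → L) (x : L) : cv c x = cvR c x := by
  funext j
  simp only [cv, cvR, Finset.sum_apply, Pi.smul_apply, smul_eq_mul]

theorem cv_der_eq_dvR (c : Fin 5 → Fin 5 → L) (x : L) : cv (der c) x = dvR c x := by
  funext j
  rw [cv_der]
  simp only [dvR, Pi.add_apply, Pi.smul_apply, smul_eq_mul]

end

/-! ### Coefficients -/

/-- the coefficient of `x^n` of `T (a x) (b x) (d x)` -/
def co {K : Type v} [CommRing K] [Algebra k K] (n : ℕ) (a b d : Fin 5 → Fin 5 → K) : K :=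
  ∑ i : Fin 5, ∑ j : Fin 5, ∑ l : Fin 5, if (i : ℕ) + j + l = n then TR T (a i) (b j) (d l) else 0

theorem regroup {K : Type v} [CommRing K] (f : ℕ → K) (g : Fin 5 → Fin 5 → Fin 5 → K) :
    ∑ i : Fin 5, ∑ j : Fin 5, ∑ l : Fin 5, f ((i : ℕ) + j + l) * g i j l =
      ∑ n : Fin 13, f n * ∑ i : Fin 5, ∑ j : Fin 5, ∑ l : Fin 5, if (i : ℕ) + j + l = n then g i j l else 0 := by
  have h1 : ∀ i j l : Fin 5, f ((i : ℕ) + j + l) * g i j l =
      ∑ n : Fin 13, if (i : ℕ) + j + l = n then f n * g i j l else 0 := by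
    intro i j l
    rw [Finset.sum_eq_single (⟨(i : ℕ) + j + l, by omega⟩ : Fin 13)]
    · simp
    · intro n _ hn
      rw [if_neg]
      intro h
      exact hn (Fin.ext h.symm)
    · intro h
      exact absurd (Finset.mem_univ _) h
  simp only [h1]
  calc _ = ∑ i : Fin 5, ∑ j : Fin 5, ∑ n : Fin 13, ∑ l : Fin 5,
        (if (i : ℕ) + j + l = n then f n * g i j l else 0) :=
        Finset.sum_congr rfl fun i _ => Finset.sum_congr rfl fun j _ => Finset.sum_comm
    _ = ∑ i : Fin 5, ∑ n : Fin 13, ∑ j : Fin 5, ∑ l : Fin 5,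
        (if (i : ℕ) + j + l = n then f n * g i j l else 0) :=
        Finset.sum_congr rfl fun i _ => Finset.sum_comm
    _ = ∑ n : Fin 13, ∑ i : Fin 5, ∑ j : Fin 5, ∑ l : Fin 5,
        (if (i : ℕ) + j + l = n then f n * g i j l else 0) := Finset.sum_comm
    _ = _ := by simp only [Finset.mul_sum, mul_ite, mul_zero]

section

variable {L : Type v} [Field L] [Algebra k L]

theorem T_cv_co (a b d : Fin 5 → Fin 5 → L) (x : L) :
    TL T L (cv a x) (cv b x) (cv d x) = ∑ n : Fin 13, co T n a b d * x ^ (n : ℕ) := by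
  simp only [cv, tri_sum]
  have h := regroup (fun n => x ^ n) (fun i j l => TR T (a i) (b j) (d l))
  simp only [co]
  calc _ = ∑ i : Fin 5, ∑ j : Fin 5, ∑ l : Fin 5, x ^ ((i : ℕ) + j + l) * TR T (a i) (b j) (d l) := by
        refine Finset.sum_congr rfl fun i _ => Finset.sum_congr rfl fun j _ => Finset.sum_congr rfl fun l _ => ?_
        rw [TL_apply, pow_add, pow_add]; ring
    _ = _ := by
        rw [h]
        exact Finset.sum_congr rfl fun n _ => mul_comm _ _

theorem coeff_unique [Infinite L] {n : ℕ} {f g : Fin n → L}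
    (h : ∀ x : L, ∑ i, f i * x ^ (i : ℕ) = ∑ i, g i * x ^ (i : ℕ)) : f = g := by
  have h1 : (∑ i : Fin n, Polynomial.C (f i) * Polynomial.X ^ (i : ℕ)) =
      ∑ i : Fin n, Polynomial.C (g i) * Polynomial.X ^ (i : ℕ) := by
    refine Polynomial.funext fun x => ?_
    simpa [Polynomial.eval_finsetSum] using h x
  funext i
  have h2 := congrArg (fun p : Polynomial L => p.coeff i) h1
  simp only [Polynomial.finsetSum_coeff, Polynomial.coeff_C_mul, Polynomial.coeff_X_pow, Fin.val_inj,
    mul_ite, mul_one, mul_zero] at h2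
  simpa using h2

theorem co_eq_zero [Infinite L] {a b d : Fin 5 → Fin 5 → L}
    (h : ∀ x : L, TL T L (cv a x) (cv b x) (cv d x) = 0) (n : Fin 13) : co T n a b d = 0 := by
  have h1 := coeff_unique (L := L) (f := fun n : Fin 13 => co T n a b d) (g := 0) (fun x => by
    rw [← T_cv_co, h]; simp)
  exact congrFun h1 n

variable {T} in
theorem co_s13 [Infinite L] (hT : IsSym3 T) (a b d : Fin 5 → Fin 5 → L) (n : Fin 13) :
    co T n a b d = co T n d b a := by
  have h1 := coeff_unique (L := L) (f := fun n : Fin 13 => co T n a b d) (g := fun n : Fin 13 => co T n d b a)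
    (fun x => by rw [← T_cv_co, ← T_cv_co, (TL_sym hT).s13])
  exact congrFun h1 n

variable {T} in
theorem co_s23 [Infinite L] (hT : IsSym3 T) (a b d : Fin 5 → Fin 5 → L) (n : Fin 13) :
    co T n a b d = co T n a d b := by
  have h1 := coeff_unique (L := L) (f := fun n : Fin 13 => co T n a b d) (g := fun n : Fin 13 => co T n a d b)
    (fun x => by rw [← T_cv_co, ← T_cv_co, (TL_sym hT).s23])
  exact congrFun h1 n

end

/-! ### The equations -/

open MvPolynomial

/-- flattening -/
def fl {K : Type v} (c : Fin 5 → Fin 5 → K) : Fin (5 * 5) → K := fun l =>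
  c (finProdFinEquiv.symm l).1 (finProdFinEquiv.symm l).2

@[simp] theorem fl_apply {K : Type v} (c : Fin 5 → Fin 5 → K) (m j : Fin 5) :
    fl c (finProdFinEquiv (m, j)) = c m j := by
  simp [fl]

/-- the generic system of vectors -/
noncomputable def gc (k : Type u) [Field k] : Fin 5 → Fin 5 → MvPolynomial (Fin (5 * 5)) k :=
  fun m j => X (finProdFinEquiv (m, j))

/-- the equations of the space of quartics -/
noncomputable def hq (n : Fin 13) : MvPolynomial (Fin (5 * 5)) k := co T n (gc k) (gc k) (gc k)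

section

variable {K : Type v} [CommRing K] [Algebra k K] {K' : Type w} [CommRing K'] [Algebra k K']

theorem map_co (φ : K →ₐ[k] K') (n : ℕ) (a b d : Fin 5 → Fin 5 → K) :
    φ (co T n a b d) = co T n (fun m j => φ (a m j)) (fun m j => φ (b m j)) (fun m j => φ (d m j)) := by
  simp only [co, map_sum, apply_ite φ, map_zero, map_TR]

theorem aeval_hq (ξ : Fin (5 * 5) → K) (n : Fin 13) : aeval ξ (hq T n) =
    co T n (fun m j => ξ (finProdFinEquiv (m, j))) (fun m j => ξ (finProdFinEquiv (m, j)))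
      (fun m j => ξ (finProdFinEquiv (m, j))) := by
  simp only [hq, map_co, gc, aeval_X]

/-- directional derivative -/
noncomputable def dl (ξ v : Fin (5 * 5) → K) (p : MvPolynomial (Fin (5 * 5)) k) : K :=
  ∑ l, aeval ξ (pderiv l p) * v l

theorem dl_add (ξ v : Fin (5 * 5) → K) (p q : MvPolynomial (Fin (5 * 5)) k) :
    dl ξ v (p + q) = dl ξ v p + dl ξ v q := by
  simp only [dl, map_add, add_mul, Finset.sum_add_distrib]

theorem dl_zero (ξ v : Fin (5 * 5) → K) : dl ξ v (0 : MvPolynomial (Fin (5 * 5)) k) = 0 := by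
  simp [dl]

theorem dl_sum {ι : Type*} (ξ v : Fin (5 * 5) → K) (s : Finset ι) (p : ι → MvPolynomial (Fin (5 * 5)) k) :
    dl ξ v (∑ i ∈ s, p i) = ∑ i ∈ s, dl ξ v (p i) := by
  classical
  induction s using Finset.induction_on with
  | empty => simp [dl_zero]
  | insert i s his ih => rw [Finset.sum_insert his, Finset.sum_insert his, dl_add, ih]

theorem dl_mul (ξ v : Fin (5 * 5) → K) (p q : MvPolynomial (Fin (5 * 5)) k) :
    dl ξ v (p * q) = aeval ξ p * dl ξ v q + dl ξ v p * aeval ξ q := by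
  simp only [dl, Derivation.leibniz, smul_eq_mul, map_add, map_mul, Finset.mul_sum, Finset.sum_mul,
    ← Finset.sum_add_distrib]
  exact Finset.sum_congr rfl fun l _ => by ring

theorem dl_C (ξ v : Fin (5 * 5) → K) (a : k) : dl ξ v (C a) = 0 := by
  simp [dl]

theorem dl_X (ξ v : Fin (5 * 5) → K) (l : Fin (5 * 5)) : dl ξ v (X l : MvPolynomial (Fin (5 * 5)) k) = v l := by
  classical
  rw [dl, Finset.sum_eq_single l]
  · simp
  · intro m _ hm
    rw [pderiv_X_of_ne (Ne.symm hm)]
    simp
  · intro h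
    exact absurd (Finset.mem_univ _) h

theorem dl_TR (ξ v : Fin (5 * 5) → K) (a b d : Fin 5 → MvPolynomial (Fin (5 * 5)) k) :
    dl ξ v (TR T a b d) = TR T (fun i => dl ξ v (a i)) (fun i => aeval ξ (b i)) (fun i => aeval ξ (d i)) +
      TR T (fun i => aeval ξ (a i)) (fun i => dl ξ v (b i)) (fun i => aeval ξ (d i)) +
      TR T (fun i => aeval ξ (a i)) (fun i => aeval ξ (b i)) (fun i => dl ξ v (d i)) := by
  simp only [TR, dl_sum, ← Finset.sum_add_distrib]
  refine Finset.sum_congr rfl fun i _ => Finset.sum_congr rfl fun j _ => Finset.sum_congr rfl fun l _ => ?_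
  rw [dl_mul, algebraMap_eq, dl_C, aeval_C, dl_mul, dl_mul, map_mul]
  ring

theorem dl_hq (ξ v : Fin (5 * 5) → K) (n : Fin 13) : dl ξ v (hq T n) =
    co T n (fun m j => v (finProdFinEquiv (m, j))) (fun m j => ξ (finProdFinEquiv (m, j)))
      (fun m j => ξ (finProdFinEquiv (m, j))) +
    co T n (fun m j => ξ (finProdFinEquiv (m, j))) (fun m j => v (finProdFinEquiv (m, j)))
      (fun m j => ξ (finProdFinEquiv (m, j))) +
    co T n (fun m j => ξ (finProdFinEquiv (m, j))) (fun m j => ξ (finProdFinEquiv (m, j)))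
      (fun m j => v (finProdFinEquiv (m, j))) := by
  simp only [hq, co, dl_sum, ← Finset.sum_add_distrib]
  refine Finset.sum_congr rfl fun i _ => Finset.sum_congr rfl fun j _ => Finset.sum_congr rfl fun l _ => ?_
  split_ifs with h
  · rw [dl_TR]
    simp only [gc, aeval_X, dl_X]
  · rw [dl_zero]; simp

end

section

variable {L : Type v} [Field L] [Algebra k L] [Infinite L]
variable {T}

theorem dl_hq' (hT : IsSym3 T) (c v : Fin 5 → Fin 5 → L) (n : Fin 13) :
    dl (fl c) (fl v) (hq T n) = 3 * co T n c c v := by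
  rw [dl_hq]
  simp only [fl_apply]
  rw [co_s13 hT v c c, co_s23 hT c v c]
  ring

end

end K304.ChordNat
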