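import Groth.Agent.Fano.K304.ChordMain
import Groth.Agent.Fano.K304.ChordNat
import Groth.Agent.Fano.K655.GenPt
import Groth.Agent.Fano.K788.ChordCount
import Mathlib.LinearAlgebra.Matrix.NonsingularInverse

/-!
# Rational quartics on a cubic threefold with two disjoint simple chords are dense
-/

set_option autoImplicit false
set_option linter.unusedSimpArgs false

universe u v

namespace K304.ChordFin

open MvPolynomial K656.Trilin K304.ChordBase K304.ChordNat K304.ChordSurj K304.ChordInd K304.ChordMain Module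

variable {k : Type u} [Field k] {T : (Fin 5 → k) →ₗ[k] (Fin 5 → k) →ₗ[k] (Fin 5 → k) →ₗ[k] k}

theorem eval_eq_aeval {σ : Type*} (x : σ → k) (p : MvPolynomial σ k) : eval x p = aeval x p := by
  rw [← coe_aeval_eq_eval]; rfl

theorem TL_self : TL T k = T := by
  refine LinearMap.ext fun u => LinearMap.ext fun v => LinearMap.ext fun w => ?_
  rw [TL_apply, TR_eq]

theorem li_iff {L : Type v} [Field L] (c : Fin 5 → Fin 5 → L) :
    LinearIndependent L c ↔ (Matrix.of c).det ≠ 0 := by
  have h : LinearIndependent L (Matrix.of c).row ↔ IsUnit (Matrix.of c) := Matrix.linearIndependent_rows_iff_isUnit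
  rw [Matrix.isUnit_iff_isUnit_det, isUnit_iff_ne_zero] at h
  exact h

theorem span_top {L : Type v} [Field L] {c : Fin 5 → Fin 5 → L} (h : LinearIndependent L c) :
    Submodule.span L (Set.range c) = ⊤ :=
  h.span_eq_top_of_card_eq_finrank' (by simp)

/-- nonsingularity of the space of quartics from surjectivity -/
theorem ns [CharZero k] (hT : IsSym3 T) {c : Fin 5 → Fin 5 → k} (h0 : ∀ x : k, T (cv c x) (cv c x) (cv c x) = 0)
    (h1 : ∀ F : Fin 13 → k, ∃ v : Fin 5 → Fin 5 → k, ∀ x : k,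
      T (cv c x) (cv c x) (cv v x) = ∑ m, F m * x ^ (m : ℕ)) : K714.Comp.NS (hq T) (fl c) := by
  constructor
  · intro i
    rw [eval_eq_aeval, aeval_hq]
    simp only [fl_apply]
    exact co_eq_zero T (fun x => by rw [TL_self, h0]) i
  · rw [Fintype.linearIndependent_iff]
    intro g hg i
    obtain ⟨v, hv⟩ := h1 (Pi.single i 1)
    have h2 : ∀ n : Fin 13, co T n c c v = (Pi.single i 1 : Fin 13 → k) n := by
      intro n
      exact congrFun (coeff_unique (f := fun n : Fin 13 => co T n c c v) (fun x => by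
        rw [← T_cv_co, TL_self, hv])) n
    have h3 : ∑ n, g n * dl (fl c) (fl v) (hq T n) = 0 := by
      simp only [dl, Finset.mul_sum]
      rw [Finset.sum_comm]
      refine Finset.sum_eq_zero fun l _ => ?_
      have h4 := congrFun hg l
      simp only [Finset.sum_apply, Pi.smul_apply, smul_eq_mul, Pi.zero_apply] at h4
      have h5 : ∑ n, g n * (aeval (fl c) (pderiv l (hq T n)) * fl v l) =
          (∑ n, g n * eval (fl c) (pderiv l (hq T n))) * fl v l := by
        rw [Finset.sum_mul]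
        refine Finset.sum_congr rfl fun n _ => ?_
        rw [eval_eq_aeval, mul_assoc]
      rw [h5, h4, zero_mul]
    simp only [dl_hq' hT, h2, Pi.single_apply] at h3
    have h4 : (3 : k) ≠ 0 := by norm_num
    simpa [h4] using h3

/-- coordinatewise derivation -/
noncomputable def coord {L : Type v} [Field L] (D : Derivation ℤ L L) : (Fin 5 → L) →+ (Fin 5 → L) where
  toFun u := fun j => D (u j)
  map_zero' := by funext j; simp
  map_add' u v := by funext j; simp

theorem comp_coord {L : Type v} [Field L] [Algebra k L] (D : Derivation k L L) :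
    Comp (TL T L) (D.restrictScalars ℤ) (coord (D.restrictScalars ℤ)) where
  smul a u := by
    funext j
    change D (a * u j) = D a * u j + a * D (u j)
    rw [D.leibniz]
    simp only [smul_eq_mul]
    ring
  tri u v w := by
    simp only [TL_apply]
    change D (TR T u v w) = _
    simp only [TR, map_sum, ← Finset.sum_add_distrib]
    refine Finset.sum_congr rfl fun i _ => Finset.sum_congr rfl fun j _ => Finset.sum_congr rfl fun l _ => ?_
    change D _ = _ * (D (u i) * _) + _ * (_ * (D (v j) * _)) + _ * (_ * (_ * D (w l)))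
    rw [D.leibniz, D.map_algebraMap, D.leibniz, D.leibniz]
    simp only [smul_eq_mul]
    ring

/-- a quartic with two disjoint simple chords -/
structure Good (T : (Fin 5 → k) →ₗ[k] (Fin 5 → k) →ₗ[k] (Fin 5 → k) →ₗ[k] k) (c : Fin 5 → Fin 5 → k)
    (p q : k) : Prop where
  ne : p ≠ q
  h1 : T (cv c p) (cv c p) (cv c q) = 0
  h2 : T (cv c q) (cv c q) (cv c p) = 0
  simple : (2 * T (cv c p) (cv (der c) p) (cv c q)) * (2 * T (cv c q) (cv (der c) q) (cv c p)) ≠
      T (cv c p) (cv c p) (cv (der c) q) * T (cv c q) (cv c q) (cv (der c) p)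

theorem exists_chords [IsAlgClosed k] [CharZero k] (hT : IsSym3 T) (hsm : ∀ v, v ≠ 0 → ∃ w, T v v w ≠ 0)
    {c : Fin 5 → Fin 5 → k} (hli : LinearIndependent k c) (h0 : ∀ x : k, T (cv c x) (cv c x) (cv c x) = 0)
    (h1 : ∀ F : Fin 13 → k, ∃ v : Fin 5 → Fin 5 → k, ∀ x : k,
      T (cv c x) (cv c x) (cv v x) = ∑ m, F m * x ^ (m : ℕ))
    (g : MvPolynomial (Fin (5 * 5)) k) (hg : eval (fl c) g ≠ 0) :
    ∃ (c' : Fin 5 → Fin 5 → k) (x y z t : k), LinearIndependent k c' ∧
      (∀ s : k, T (cv c' s) (cv c' s) (cv c' s) = 0) ∧ eval (fl c') g ≠ 0 ∧ Good T c' x y ∧ Good T c' z t ∧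
      x ≠ z ∧ x ≠ t ∧ y ≠ z ∧ y ≠ t := by
  obtain ⟨L, _, _, _, ξ, hξ, hopen, hder, hspec⟩ := K655.GenPt.exists_generic (hq T) (ns hT h0 h1)
  have : CharZero L := charZero_of_injective_algebraMap (algebraMap k L).injective
  -- the generic quartic
  let cL : Fin 5 → Fin 5 → L := fun m j => ξ (finProdFinEquiv (m, j))
  have hfl : fl cL = ξ := by
    funext l
    simp [fl, cL]
  have h0L : ∀ x : L, TL T L (cv cL x) (cv cL x) (cv cL x) = 0 := by
    intro x
    rw [T_cv_co]
    refine Finset.sum_eq_zero fun n _ => ?_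
    have := hξ n
    rw [aeval_hq] at this
    rw [this, zero_mul]
  have hsmL : ∀ u : Fin 5 → L, u ≠ 0 → ∃ w, TL T L u u w ≠ 0 := by
    intro u hu
    by_contra hc
    push Not at hc
    obtain ⟨i, hi⟩ : ∃ i, u i ≠ 0 := by
      by_contra h
      push Not at h
      exact hu (funext h)
    obtain ⟨x', y', hy, hrel⟩ := hspec 5 u (X (Sum.inr i)) (by simpa using hi)
    have h2 : y' ≠ 0 := by
      intro h
      apply hy
      simp [h]
    obtain ⟨w, hw⟩ := hsm y' h2
    apply hw
    have h3 := hrel (TR T (fun j => X (Sum.inr j)) (fun j => X (Sum.inr j)) (fun j => C (w j))) (by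
      rw [map_TR]
      simp only [aeval_X, Sum.elim_inr, aeval_C]
      rw [← TL_apply]
      exact hc _)
    rw [eval_eq_aeval, map_TR] at h3
    simp only [aeval_X, Sum.elim_inr, aeval_C] at h3
    rw [← TR_eq]
    exact h3
  have hdet : ∀ {K : Type u} [Field K] [Algebra k K] (x : Fin (5 * 5) → K),
      aeval x (Matrix.of (gc k)).det = (Matrix.of (fun m j => x (finProdFinEquiv (m, j)))).det := by
    intro K _ _ x
    rw [AlgHom.map_det]
    congr 1
    ext m j
    simp [gc]
  have hcfl : ∀ {K : Type u} (c : Fin 5 → Fin 5 → K), (fun m j => fl c (finProdFinEquiv (m, j))) = c := by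
    intro K c
    funext m j
    exact fl_apply c m j
  have hliL : LinearIndependent L cL := by
    rw [li_iff]
    have h2 := hopen (Matrix.of (gc k)).det (by
      rw [eval_eq_aeval, hdet, hcfl]
      exact (li_iff c).mp hli)
    rw [hdet] at h2
    exact h2
  have hGL : Gen (TL T L) cL := by
    intro v hv
    obtain ⟨D, hD⟩ := hder (fl v) (fun i => by
      have h2 := dl_hq' hT cL v i
      rw [hfl, co_eq_zero T hv, mul_zero] at h2
      exact h2)
    refine ⟨D.restrictScalars ℤ, coord (D.restrictScalars ℤ), comp_coord D, fun m => ?_⟩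
    funext j
    change D (ξ (finProdFinEquiv (m, j))) = v m j
    rw [hD, fl_apply]
  have hTL := TL_sym (L := L) hT
  obtain ⟨d1, d2, d3, c1, c2, c3, c4⟩ := count_hyps hTL h0L hsmL hliL (span_top hliL) hGL
  obtain ⟨x1, y1, x2, y2, n1, n2, n3, n4, n5, n6, g1, g2, g3, g4⟩ :=
    K788.ChordCount.exists_disjoint (al (TL T L) cL) (be (TL T L) cL) (ga (TL T L) cL) d1 d2 d3 c1 c2 c3 c4
  have hG1 : TL T L (cv cL x1) (cv cL x1) (cv cL y1) = 0 := by
    rw [T_ccz hTL h0L]; exact mul_eq_zero_of_right _ g1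
  have hG2 : TL T L (cv cL y1) (cv cL y1) (cv cL x1) = 0 := by
    rw [T_ccz hTL h0L]; exact mul_eq_zero_of_right _ g2
  have hG3 : TL T L (cv cL x2) (cv cL x2) (cv cL y2) = 0 := by
    rw [T_ccz hTL h0L]; exact mul_eq_zero_of_right _ g3
  have hG4 : TL T L (cv cL y2) (cv cL y2) (cv cL x2) = 0 := by
    rw [T_ccz hTL h0L]; exact mul_eq_zero_of_right _ g4
  have hs1 := simple hTL h0L hsmL hliL (span_top hliL) hGL n1 hG1 hG2
  have hs2 := simple hTL h0L hsmL hliL (span_top hliL) hGL n2 hG3 hG4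
  -- polynomials
  let R := MvPolynomial (Fin (5 * 5) ⊕ Fin 4) k
  let γ : Fin 5 → Fin 5 → R := fun m j => X (Sum.inl (finProdFinEquiv (m, j)))
  let s : Fin 4 → R := fun i => X (Sum.inr i)
  let ch : Fin 4 → Fin 4 → R := fun i j => TR T (cvR γ (s i)) (cvR γ (s i)) (cvR γ (s j))
  let si : Fin 4 → Fin 4 → R := fun i j =>
    (2 * TR T (cvR γ (s i)) (dvR γ (s i)) (cvR γ (s j))) * (2 * TR T (cvR γ (s j)) (dvR γ (s j)) (cvR γ (s i))) -
      TR T (cvR γ (s i)) (cvR γ (s i)) (dvR γ (s j)) * TR T (cvR γ (s j)) (cvR γ (s j)) (dvR γ (s i))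
  have ev : ∀ {K : Type u} [Field K] [Algebra k K] (c : Fin 5 → Fin 5 → K) (y : Fin 4 → K) (i j : Fin 4),
      aeval (Sum.elim (fl c) y) (ch i j) = TL T K (cv c (y i)) (cv c (y i)) (cv c (y j)) ∧
      aeval (Sum.elim (fl c) y) (si i j) =
        (2 * TL T K (cv c (y i)) (cv (der c) (y i)) (cv c (y j))) *
          (2 * TL T K (cv c (y j)) (cv (der c) (y j)) (cv c (y i))) -
        TL T K (cv c (y i)) (cv c (y i)) (cv (der c) (y j)) *
          TL T K (cv c (y j)) (cv c (y j)) (cv (der c) (y i)) := by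
    intro K _ _ c y i j
    have e1 : ∀ i, (fun j => aeval (Sum.elim (fl c) y) (cvR γ (s i) j)) = cv c (y i) := by
      intro i
      funext j
      rw [map_cvR, cv_eq_cvR]
      simp only [γ, s, aeval_X, Sum.elim_inl, Sum.elim_inr, fl_apply]
    have e2 : ∀ i, (fun j => aeval (Sum.elim (fl c) y) (dvR γ (s i) j)) = cv (der c) (y i) := by
      intro i
      funext j
      rw [map_dvR, cv_der_eq_dvR]
      simp only [γ, s, aeval_X, Sum.elim_inl, Sum.elim_inr, fl_apply]
    constructor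
    · simp only [ch]
      rw [map_TR, e1, e1, TL_apply]
    · simp only [si]
      rw [map_sub, map_mul, map_mul, map_mul, map_mul, map_ofNat, map_TR, map_TR, map_TR, map_TR, e1, e1, e2, e2]
      simp only [TL_apply]
  let y : Fin 4 → L := ![x1, y1, x2, y2]
  let q : R := rename Sum.inl (g * (Matrix.of (gc k)).det) * ((s 0 - s 1) * (s 2 - s 3) * (s 0 - s 2) *
    (s 0 - s 3) * (s 1 - s 2) * (s 1 - s 3)) * (si 0 1 * si 2 3)
  have hqne : aeval (Sum.elim ξ y) q ≠ 0 := by
    simp only [q, map_mul, map_sub, aeval_rename, Sum.elim_comp_inl, s, aeval_X, Sum.elim_inr]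
    rw [← hfl, (ev cL y 0 1).2, (ev cL y 2 3).2, hfl]
    refine mul_ne_zero (mul_ne_zero (mul_ne_zero (hopen g hg) ?_) ?_) (mul_ne_zero ?_ ?_)
    · rw [hdet]
      exact (li_iff cL).mp hliL
    · exact mul_ne_zero (mul_ne_zero (mul_ne_zero (mul_ne_zero (mul_ne_zero (sub_ne_zero.mpr n1)
        (sub_ne_zero.mpr n2)) (sub_ne_zero.mpr n3)) (sub_ne_zero.mpr n4)) (sub_ne_zero.mpr n5))
        (sub_ne_zero.mpr n6)
    · exact sub_ne_zero.mpr hs1
    · exact sub_ne_zero.mpr hs2
  obtain ⟨x', y', hq', hrel⟩ := hspec 4 y q hqne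
  let c' : Fin 5 → Fin 5 → k := fun m j => x' (finProdFinEquiv (m, j))
  have hfl' : fl c' = x' := by
    funext l
    simp [fl, c']
  have hch : ∀ i j, aeval (Sum.elim ξ y) (ch i j) = 0 → T (cv c' (y' i)) (cv c' (y' i)) (cv c' (y' j)) = 0 := by
    intro i j h
    have h2 := hrel _ h
    rw [eval_eq_aeval, ← hfl', (ev c' y' i j).1, TL_self] at h2
    exact h2
  rw [eval_eq_aeval] at hq'
  simp only [q, map_mul, map_sub, aeval_rename, Sum.elim_comp_inl, s, aeval_X, Sum.elim_inr] at hq'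
  rw [← hfl', (ev c' y' 0 1).2, (ev c' y' 2 3).2, hfl', TL_self] at hq'
  simp only [ne_eq, mul_eq_zero, not_or, sub_eq_zero] at hq'
  obtain ⟨⟨⟨k1, k2⟩, ⟨⟨⟨⟨k3, k4⟩, k5⟩, k6⟩, k7⟩, k8⟩, k9, k10⟩ := hq'
  have z1 := (ev cL y 0 1).1
  have z2 := (ev cL y 1 0).1
  have z3 := (ev cL y 2 3).1
  have z4 := (ev cL y 3 2).1
  rw [hfl] at z1 z2 z3 z4
  refine ⟨c', y' 0, y' 1, y' 2, y' 3, ?_, ?_, ?_, ⟨k3, hch 0 1 (z1.trans hG1), hch 1 0 (z2.trans hG2), k9⟩,
    ⟨k4, hch 2 3 (z3.trans hG3), hch 3 2 (z4.trans hG4), k10⟩, k5, k6, k7, k8⟩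
  · rw [li_iff]
    rw [hdet] at k2
    exact k2
  · intro s
    have h2 : ∀ n, co T (n : Fin 13) c' c' c' = 0 := by
      intro n
      have h3 := hrel (rename Sum.inl (hq T n)) (by rw [aeval_rename, Sum.elim_comp_inl, hξ])
      rw [eval_eq_aeval, aeval_rename, Sum.elim_comp_inl, aeval_hq] at h3
      exact h3
    have h3 := T_cv_co T c' c' c' s
    rw [TL_self] at h3
    rw [h3]
    exact Finset.sum_eq_zero fun n _ => by rw [h2, zero_mul]
  · rw [hfl', eval_eq_aeval]
    exact k1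

end K304.ChordFin
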