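import Groth.Agent.Fano.K304.ChordSurj

/-!
# Rational quartics on a cubic threefold: `α, β, γ` are linearly independent for a generic quartic

`Gen T c`: every `v` with `T (c x) (c x) (v x) = 0` is the derivative of `c` for some derivation of the field
compatible with `T`.
-/

set_option autoImplicit false
set_option linter.unusedSimpArgs false

universe u v

namespace K304.ChordInd

open Polynomial K656.Trilin K304.ChordBase K304.ChordSurj Module

variable {L : Type u} [Field L] {V : Type v} [AddCommGroup V] [Module L V] {T : V →ₗ[L] V →ₗ[L] V →ₗ[L] L}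

/-- `E` is a derivation of `V` over the derivation `D` of the field, compatible with `T`. -/
structure Comp (T : V →ₗ[L] V →ₗ[L] V →ₗ[L] L) (D : Derivation ℤ L L) (E : V →+ V) : Prop where
  smul : ∀ (a : L) (u : V), E (a • u) = D a • u + a • E u
  tri : ∀ u v w : V, D (T u v w) = T (E u) v w + T u (E v) w + T u v (E w)

/-- genericity -/
def Gen (T : V →ₗ[L] V →ₗ[L] V →ₗ[L] L) (c : Fin 5 → V) : Prop :=
  ∀ v : Fin 5 → V, (∀ x : L, T (cv c x) (cv c x) (cv v x) = 0) →
    ∃ (D : Derivation ℤ L L) (E : V →+ V), Comp T D E ∧ ∀ m, E (c m) = v m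

theorem Comp.cv {D : Derivation ℤ L L} {E : V →+ V} (h : Comp T D E) {c v : Fin 5 → V}
    (hE : ∀ m, E (c m) = v m) (x : L) : E (cv c x) = cv v x + D x • cv (der c) x := by
  rw [cv_eq, cv_eq, cv_der]
  simp only [map_add, h.smul, hE, D.leibniz_pow]
  simp only [smul_eq_mul, nsmul_eq_mul]
  push_cast
  module

omit [Module L V] in
theorem E_der {E : V →+ V} {c v : Fin 5 → V}
    (hE : ∀ m, E (c m) = v m) (m : Fin 5) : E (der c m) = der v m := by
  fin_cases m <;> simp [ChordBase.der, hE, map_nsmul]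

/-- linear functional on quadratic forms applied to the vector coefficients of `G` -/
def kk (a b d : L) (c : Fin 5 → V) : Fin 5 → V :=
  ![a • c 2 + b • c 3 + d • c 4, (2 * a) • c 3 + (2 * b) • c 4, (3 * a) • c 4, 0, 0]

theorem cv_kk (a b d : L) (c : Fin 5 → V) (x : L) : cv (kk a b d c) x =
    a • (c 2 + (2 * x) • c 3 + (3 * x ^ 2) • c 4) + b • (c 3 + (2 * x) • c 4) + d • c 4 := by
  rw [cv_eq]
  simp only [kk, Matrix.cons_val]
  module

theorem cv_der_kk (a b d : L) (c : Fin 5 → V) (x : L) : cv (der (kk a b d c)) x =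
    (2 * a) • c 3 + (2 * b) • c 4 + (6 * a * x) • c 4 := by
  rw [cv_der]
  simp only [kk, Matrix.cons_val]
  module

theorem T_kk (a b d : L) (c : Fin 5 → V) (x : L) : T (cv c x) (cv c x) (cv (kk a b d c) x) =
    a * (al T c).eval x + b * (be T c).eval x + d * (ga T c).eval x := by
  rw [cv_kk]
  simp only [map_add, map_smul, smul_eq_mul, al, be, ga, eval_add, eval_mul, eval_pow, eval_X, eval_C, eval_lam]
  ring

/-- the functional `(1, p + e, p (p + 2 e))` -/
theorem kk_id (p e : L) (a : Fin 5 → V) (x : L) :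
    ((x - p) ^ 3) • cv (kk 1 (p + e) (p * (p + 2 * e)) a) x =
      (x - p + 2 * e) • cv a p + (e * (x - p)) • cv (der a) p - (x - p + 2 * e) • cv a x
        + ((x - p) * (x - p + e)) • cv (der a) x := by
  rw [cv_kk, cv_der, cv_der, cv_eq, cv_eq]
  module

theorem E_kk {D : Derivation ℤ L L} {E : V →+ V} (h : Comp T D E) {c v : Fin 5 → V}
    (hE : ∀ m, E (c m) = v m) (a b d : L) (m : Fin 5) :
    E (kk a b d c m) = (kk a b d v + kk (D a) (D b) (D d) c) m := by
  have d2 : D (2 : L) = 0 := by exact_mod_cast D.map_natCast 2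
  have d3 : D (3 : L) = 0 := by exact_mod_cast D.map_natCast 3
  fin_cases m <;> simp [kk, h.smul, hE, d2, d3]
  all_goals module

section

variable [CharZero L] (hT : IsSym3 T) {c : Fin 5 → V} (h0 : ∀ x : L, T (cv c x) (cv c x) (cv c x) = 0)
  (hG : Gen T c)
include hT h0 hG

omit h0 in
/-- derivative of a relation between `α, β, γ` -/
theorem rel_der {a b d : L} (hr : ∀ x, a * (al T c).eval x + b * (be T c).eval x + d * (ga T c).eval x = 0)
    {v : Fin 5 → V} (hv : ∀ x : L, T (cv c x) (cv c x) (cv v x) = 0) :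
    ∃ D : Derivation ℤ L L, ∀ x, 2 * T (cv c x) (cv v x) (cv (kk a b d c) x) +
      T (cv c x) (cv c x) (cv (kk a b d v) x) +
        (D a * (al T c).eval x + D b * (be T c).eval x + D d * (ga T c).eval x) = 0 := by
  obtain ⟨D, E, hDE, hE⟩ := hG v hv
  refine ⟨D, fun x => ?_⟩
  have h1 : ∀ x : L, T (cv c x) (cv c x) (cv (kk a b d c) x) = 0 := fun x => by rw [T_kk, hr]
  have h2 := hDE.tri (cv c x) (cv c x) (cv (kk a b d c) x)
  rw [h1, D.map_zero, hDE.cv hE, hDE.cv (v := kk a b d v + kk (D a) (D b) (D d) c) (E_kk hDE hE a b d)] at h2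
  have h3 := leib0 h1 x
  have h4 : cv (kk a b d v + kk (D a) (D b) (D d) c) x = cv (kk a b d v) x + cv (kk (D a) (D b) (D d) c) x := by
    simp [cv, Finset.sum_add_distrib]
  rw [h4] at h2
  simp only [map_add, map_smul, LinearMap.add_apply, LinearMap.smul_apply, smul_eq_mul, T_kk] at h2
  rw [hT.s12 (cv v x), hT.s12 (cv (der c) x) (cv c x)] at h2
  rw [hT.s12 (cv (der c) x) (cv c x)] at h3
  linear_combination -h2 - D x * h3

/-- reparametrisation -/
theorem rel_shift {a b d : L} (hr : ∀ x, a * (al T c).eval x + b * (be T c).eval x + d * (ga T c).eval x = 0) :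
    ∃ D : Derivation ℤ L L, ∀ x, (D a - 2 * b) * (al T c).eval x + (D b - d) * (be T c).eval x +
      D d * (ga T c).eval x = 0 := by
  let v : Fin 5 → V := ![0, (-4 : L) • c 0, (-3 : L) • c 1, (-2 : L) • c 2, (-1 : L) • c 3]
  have hv : ∀ x : L, cv v x = x ^ 2 • cv (der c) x - (4 * x) • cv c x := by
    intro x
    rw [cv_eq v, cv_der, cv_eq c]
    simp only [v, Matrix.cons_val]
    module
  obtain ⟨D, hD⟩ := rel_der hT hG hr (v := v) (fun x => by
    rw [hv, map_sub, map_smul, map_smul, T_ccc' hT h0, h0]; simp)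
  refine ⟨D, fun x => ?_⟩
  have h1 : ∀ x : L, T (cv c x) (cv c x) (cv (kk a b d c) x) = 0 := fun x => by rw [T_kk, hr]
  have h3 := leib0 h1 x
  rw [hT.s12 (cv (der c) x) (cv c x)] at h3
  have h4 := hD x
  rw [hv] at h4
  simp only [map_sub, LinearMap.sub_apply, map_smul, LinearMap.smul_apply, smul_eq_mul, h1] at h4
  rw [cv_kk a b d v] at h4
  rw [cv_der_kk] at h3
  simp only [v, Matrix.cons_val, map_add, map_smul, smul_eq_mul] at h3 h4
  rw [e1 hT h0, e2, e3] at h4
  rw [e3, e4] at h3
  have h5 := hr x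
  linear_combination h4 - x ^ 2 * h3 - 2 * x * h5

/-- A relation with first coefficient `1`. -/
theorem exists_rel {a b d : L} (hr : ∀ x, a * (al T c).eval x + b * (be T c).eval x + d * (ga T c).eval x = 0)
    (hne : ¬ (a = 0 ∧ b = 0 ∧ d = 0)) :
    ∃ b' d' : L, ∀ x, (al T c).eval x + b' * (be T c).eval x + d' * (ga T c).eval x = 0 := by
  have key : ∀ a b d : L, a ≠ 0 →
      (∀ x, a * (al T c).eval x + b * (be T c).eval x + d * (ga T c).eval x = 0) →
      ∃ b' d' : L, ∀ x, (al T c).eval x + b' * (be T c).eval x + d' * (ga T c).eval x = 0 := by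
    intro a b d ha h
    refine ⟨b / a, d / a, fun x => ?_⟩
    have := h x
    field_simp
    linear_combination this
  by_cases ha : a = 0
  · subst ha
    by_cases hb : b = 0
    · subst hb
      have hd : d ≠ 0 := fun h => hne ⟨rfl, rfl, h⟩
      have hg : ∀ x, (ga T c).eval x = 0 := by
        intro x
        have := hr x
        simpa [hd] using this
      obtain ⟨D, hD⟩ := rel_shift hT h0 hG (a := 0) (b := 0) (d := 1) (by simpa using hg)
      have hb : ∀ x, (be T c).eval x = 0 := by
        intro x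
        have := hD x
        simpa [hg] using this
      obtain ⟨D', hD'⟩ := rel_shift hT h0 hG (a := 0) (b := 1) (d := 0) (by simpa using hb)
      have ha : ∀ x, (al T c).eval x = 0 := by
        intro x
        have := hD' x
        simpa [hg, hb] using this
      exact ⟨0, 0, by simpa using ha⟩
    · obtain ⟨D, hD⟩ := rel_shift hT h0 hG hr
      refine key _ _ _ ?_ hD
      simpa using hb
  · exact key a b d ha hr

end

section

variable [CharZero L] [IsAlgClosed L] (hT : IsSym3 T) {c : Fin 5 → V}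
  (h0 : ∀ x : L, T (cv c x) (cv c x) (cv c x) = 0)
  (hsm : ∀ v : V, v ≠ 0 → ∃ w, T v v w ≠ 0) (hli : LinearIndependent L c)
  (hsp : Submodule.span L (Set.range c) = ⊤)
include hT h0 hsm hli hsp

/-- if `dim ⟨α, β, γ⟩ ≤ 2` this space does not contain `f` and `(X - p) f` -/
theorem eq_zero_of_mem {b' d' : L} (hr : al T c + C b' * be T c + C d' * ga T c = 0)
    {f : L[X]} {p a1 b1 d1 a2 b2 d2 : L} (h1 : f = C a1 * al T c + C b1 * be T c + C d1 * ga T c)
    (h2 : (X - C p) * f = C a2 * al T c + C b2 * be T c + C d2 * ga T c) : f = 0 := by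
  by_contra hf
  set β := be T c with hβ
  set γ := ga T c with hγ
  have hα : al T c = - (C b' * β + C d' * γ) := by linear_combination hr
  -- everything in terms of `β, γ`
  obtain ⟨b, d, e1⟩ : ∃ b d : L, f = C b * β + C d * γ :=
    ⟨b1 - a1 * b', d1 - a1 * d', by rw [h1, hα]; simp only [C_sub, C_mul]; ring⟩
  obtain ⟨s, t, e2⟩ : ∃ b d : L, (X - C p) * f = C b * β + C d * γ :=
    ⟨b2 - a2 * b', d2 - a2 * d', by rw [h2, hα]; simp only [C_sub, C_mul]; ring⟩
  have lin : ∀ u v : L, (C u - C v * (X - C p)) * f = 0 → v = 0 := by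
    intro u v h
    have h3 := (mul_eq_zero.mp h).resolve_right hf
    have h4 := congrArg (fun g : L[X] => g.coeff 1) h3
    simpa [coeff_X, coeff_C] using h4
  have hdet : s * d - b * t ≠ 0 := by
    intro h
    have h3 : (C s - C b * (X - C p)) * f = 0 := by
      have : (C s - C b * (X - C p)) * f = C (s * d - b * t) * γ := by
        simp only [C_sub, C_mul]
        linear_combination C s * e1 - C b * e2
      rw [this, h]; simp
    have h4 : (C t - C d * (X - C p)) * f = 0 := by
      have : (C t - C d * (X - C p)) * f = - C (s * d - b * t) * β := by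
        simp only [C_sub, C_mul]
        linear_combination C t * e1 - C d * e2
      rw [this, h]; simp
    have hb := lin _ _ h3
    have hd := lin _ _ h4
    exact hf (by rw [e1, hb, hd]; simp)
  have g1 : β * C (s * d - b * t) = f * (C d * (X - C p) - C t) := by
    simp only [C_sub, C_mul]
    linear_combination C t * e1 - C d * e2
  have g2 : γ * C (s * d - b * t) = f * (C s - C b * (X - C p)) := by
    simp only [C_sub, C_mul]
    linear_combination - C s * e1 + C b * e2
  have no := no_zero hT h0 hsm hli hsp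
  have noT := no_zero_top hT h0 hsm hli hsp
  by_cases hdeg : f.natDegree = 0
  · -- `f` constant
    have small : ∀ g h : L[X], h.natDegree ≤ 1 → g * C (s * d - b * t) = f * h → g.coeff 6 = 0 := by
      intro g h hh e
      have h5 := congrArg (fun q : L[X] => q.coeff 6) e
      simp only [coeff_mul_C] at h5
      rw [coeff_eq_zero_of_natDegree_lt (p := f * h) (by
        refine lt_of_le_of_lt natDegree_mul_le ?_
        omega)] at h5
      exact (mul_eq_zero.mp h5).resolve_right hdet
    have k1 : β.coeff 6 = 0 := small _ _ (by compute_degree) g1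
    have k2 : γ.coeff 6 = 0 := small _ _ (by compute_degree) g2
    refine noT ⟨?_, k1, k2⟩
    rw [hα, coeff_neg, coeff_add, coeff_C_mul, coeff_C_mul, k1, k2]
    ring
  · obtain ⟨x, hx⟩ := IsAlgClosed.exists_root f (by
      intro h
      exact hdeg (natDegree_eq_of_degree_eq_some h))
    have hx' : f.eval x = 0 := hx
    have k1 : β.eval x = 0 := by
      have h5 := congrArg (fun q : L[X] => q.eval x) g1
      simp only [eval_mul, hx', zero_mul, eval_C] at h5
      exact (mul_eq_zero.mp h5).resolve_right hdet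
    have k2 : γ.eval x = 0 := by
      have h5 := congrArg (fun q : L[X] => q.eval x) g2
      simp only [eval_mul, hx', zero_mul, eval_C] at h5
      exact (mul_eq_zero.mp h5).resolve_right hdet
    refine no x ⟨?_, k1, k2⟩
    rw [hα]
    simp [k1, k2]

variable (hG : Gen T c)
include hG

/-- the case of an evaluation functional -/
theorem no_ev {p : L} (hr : ∀ x, (al T c).eval x + p * (be T c).eval x + p ^ 2 * (ga T c).eval x = 0) :
    False := by
  have hp2 : p * (p + 2 * 0) = p ^ 2 := by ring
  have hrP : al T c + C p * be T c + C (p ^ 2) * ga T c = 0 := by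
    refine Polynomial.funext fun x => ?_
    have := hr x
    simp only [eval_add, eval_mul, eval_C, eval_zero]
    linear_combination this
  have hK : ∀ x : L, T (cv c x) (cv c x) (cv (kk 1 p (p ^ 2) c) x) = 0 := by
    intro x; rw [T_kk]; linear_combination hr x
  -- `T c c c(p) = 0`
  have hcp : ∀ x : L, T (cv c x) (cv c x) (cv c p) = 0 := by
    intro x
    rw [T_ccz hT h0, G]
    linear_combination (x - p) ^ 2 * hr x
  have hcp' : ∀ x : L, T (cv c x) (cv (der c) x) (cv c p) = 0 := by
    intro x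
    have h1 := leib0 (a := c) (b := c) (d := ct (cv c p)) (T := T) (fun x : L => by rw [cv_ct, hcp]) x
    rw [cv_ct, cv_der_ct, hT.s12 (cv (der c) x), map_zero] at h1
    have h2 : (2 : L) ≠ 0 := by norm_num
    apply mul_left_cancel₀ h2
    linear_combination h1
  let g : L[X] := C ((al T c).eval p) + C ((be T c).eval p) * X + C ((ga T c).eval p) * X ^ 2
  have hg : g ≠ 0 := by
    intro h
    refine no_zero hT h0 hsm hli hsp p ?_
    have e0 := congrArg (fun f : L[X] => f.coeff 0) h
    have e1 := congrArg (fun f : L[X] => f.coeff 1) h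
    have e2 := congrArg (fun f : L[X] => f.coeff 2) h
    simp [g, coeff_X, coeff_C] at e0 e1 e2
    exact ⟨e0, e1, e2⟩
  have hgx : ∀ x : L, T (cv c x) (cv c p) (cv c p) = (x - p) ^ 2 * g.eval x := by
    intro x
    rw [hT.rot, T_ccz hT h0, G]
    simp only [g, eval_add, eval_mul, eval_C, eval_X, eval_pow]
    ring
  have key : ∀ (v : Fin 5 → V) (r : L[X]), (∀ x : L, cv v x = r.eval x • cv c p) →
      (∀ x : L, ∃ s : L, cv (der v) x = s • cv c p) →
      ∃ a1 b1 d1 : L, r * g = C a1 * al T c + C b1 * be T c + C d1 * ga T c := by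
    intro v r hv hv'
    have hvT : ∀ x : L, T (cv c x) (cv c x) (cv v x) = 0 := by
      intro x; rw [hv, map_smul, hcp, smul_zero]
    obtain ⟨D, hD⟩ := rel_der hT hG (a := 1) (b := p) (d := p ^ 2) (fun x => by linear_combination hr x) hvT
    refine ⟨-(D 1) / 2, -(D p) / 2, -(D (p ^ 2)) / 2, ?_⟩
    have h2 : (X - C p) ^ 3 * (2 * (r * g) + (C (D 1) * al T c + C (D p) * be T c + C (D (p ^ 2)) * ga T c)) = 0 := by
      refine Polynomial.funext fun x => ?_
      have h3 := hD x
      have i1 := kk_id p 0 c x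
      have i2 := kk_id p 0 v x
      rw [hp2, add_zero] at i1 i2
      have h4 := congrArg (T (cv c x) (cv v x)) i1
      have h5 := congrArg (T (cv c x) (cv c x)) i2
      obtain ⟨s, hs⟩ := hv' x
      obtain ⟨s', hs'⟩ := hv' p
      simp only [map_add, map_sub, map_smul, smul_eq_mul, hv, hs, hs', LinearMap.smul_apply, hcp, hgx] at h4 h5
      rw [hT.s23 (cv c x) (cv c p) (cv c x), hcp, hT.s23 (cv c x) (cv c p) (cv (der c) x), hcp'] at h4
      rw [hv] at h3
      simp only [map_smul, LinearMap.smul_apply, smul_eq_mul] at h3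
      simp only [eval_mul, eval_add, eval_pow, eval_sub, eval_X, eval_C, eval_zero, eval_ofNat]
      linear_combination (x - p) ^ 3 * h3 - 2 * h4 - h5
    have h3 := (mul_eq_zero.mp h2).resolve_left (pow_ne_zero _ (X_sub_C_ne_zero p))
    have h4 : (2 : L[X]) ≠ 0 := by
      have : (2 : L) ≠ 0 := by norm_num
      exact fun h => this (by simpa using congrArg (fun f : L[X] => f.eval 0) h)
    apply mul_left_cancel₀ h4
    have h5 : ∀ a : L, (2 : L[X]) * C (-a / 2) = - C a := by
      intro a
      rw [show (2 : L[X]) = C 2 from rfl, ← C_mul, ← C_neg]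
      congr 1
      ring
    linear_combination h3 + (al T c) * -h5 (D 1) + (be T c) * -h5 (D p) + (ga T c) * -h5 (D (p ^ 2))
  obtain ⟨a1, b1, d1, k1⟩ := key ![cv c p, 0, 0, 0, 0] 1 (fun x : L => by rw [cv_eq]; simp)
    (fun x : L => ⟨0, by rw [cv_der]; simp⟩)
  obtain ⟨a2, b2, d2, k2⟩ := key ![0, cv c p, 0, 0, 0] X (fun x : L => by rw [cv_eq]; simp)
    (fun x : L => ⟨1, by rw [cv_der]; simp⟩)
  rw [one_mul] at k1
  have k2' : (X - C 0) * g = C a2 * al T c + C b2 * be T c + C d2 * ga T c := by
    rw [C_0, sub_zero, k2]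
  exact hg (eq_zero_of_mem hT h0 hsm hli hsp hrP k1 k2')

/-- the case of an apolar functional -/
theorem no_rel {p e : L} (hr : ∀ x, (al T c).eval x + (p + e) * (be T c).eval x +
    (p * (p + 2 * e)) * (ga T c).eval x = 0) : False := by
  by_cases he : e = 0
  · subst he
    exact no_ev hT h0 hsm hli hsp hG (p := p) (fun x => by linear_combination hr x)
  have h2 : (2 : L) ≠ 0 := by norm_num
  have h2' : (2 : L[X]) ≠ 0 := fun h => h2 (by simpa using congrArg (fun f : L[X] => f.eval 0) h)
  have hrP : al T c + C (p + e) * be T c + C (p * (p + 2 * e)) * ga T c = 0 := by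
    refine Polynomial.funext fun x => ?_
    have := hr x
    simp only [eval_add, eval_mul, eval_C, eval_zero]
    linear_combination this
  have hK : ∀ x : L, T (cv c x) (cv c x) (cv (kk 1 (p + e) (p * (p + 2 * e)) c) x) = 0 := by
    intro x; rw [T_kk]; linear_combination hr x
  -- the linear family `U`
  let U0 : V := (2 * e - p) • cv c p - (e * p) • cv (der c) p
  let U1 : V := cv c p + e • cv (der c) p
  have hU : ∀ x : L, U0 + x • U1 = (x - p + 2 * e) • cv c p + (e * (x - p)) • cv (der c) p := by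
    intro x
    simp only [U0, U1]
    module
  have hTU : ∀ x : L, T (cv c x) (cv c x) (U0 + x • U1) = 0 := by
    intro x
    have h1 := congrArg (T (cv c x) (cv c x)) (kk_id p e c x)
    rw [map_smul, hK, smul_zero, map_add, map_sub, map_smul _ _ (cv c x), h0, map_smul _ _ (cv (der c) x),
      T_ccc' hT h0] at h1
    rw [hU, h1]
    simp
  let B : L[X] := tp T c ![U0, U1, 0, 0, 0] ![U0, U1, 0, 0, 0]
  have hB : ∀ x : L, B.eval x = T (cv c x) (U0 + x • U1) (U0 + x • U1) := by
    intro x
    simp only [B]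
    rw [eval_tp, cv_eq ![U0, U1, 0, 0, 0]]
    simp
  -- the main computation
  have main : ∀ r0 r1 r2 r3 : L, ∃ D0 D1 D2 : L, ∀ x : L,
      2 * (r0 + r1 * x + r2 * x ^ 2 + r3 * x ^ 3) * B.eval x
        + T (cv c x) (cv c x) ((x - p + 2 * e) • (r0 + r1 * p + r2 * p ^ 2 + r3 * p ^ 3) • (U0 + p • U1)
          + (e * (x - p)) • ((r1 + 2 * r2 * p + 3 * r3 * p ^ 2) • (U0 + p • U1) +
            (r0 + r1 * p + r2 * p ^ 2 + r3 * p ^ 3) • U1))
        + (x - p) ^ 3 * (D0 * (al T c).eval x + D1 * (be T c).eval x + D2 * (ga T c).eval x) = 0 := by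
    intro r0 r1 r2 r3
    let v : Fin 5 → V := ![r0 • U0, r1 • U0 + r0 • U1, r2 • U0 + r1 • U1, r3 • U0 + r2 • U1, r3 • U1]
    have hv : ∀ x : L, cv v x = (r0 + r1 * x + r2 * x ^ 2 + r3 * x ^ 3) • (U0 + x • U1) := by
      intro x
      rw [cv_eq]
      simp only [v, Matrix.cons_val]
      module
    have hv' : ∀ x : L, cv (der v) x = (r1 + 2 * r2 * x + 3 * r3 * x ^ 2) • (U0 + x • U1) +
        (r0 + r1 * x + r2 * x ^ 2 + r3 * x ^ 3) • U1 := by
      intro x
      rw [cv_der]
      simp only [v, Matrix.cons_val]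
      module
    have hvT : ∀ x : L, T (cv c x) (cv c x) (cv v x) = 0 := by
      intro x; rw [hv, map_smul, hTU, smul_zero]
    obtain ⟨D, hD⟩ := rel_der hT hG (a := 1) (b := p + e) (d := p * (p + 2 * e))
      (fun x => by linear_combination hr x) hvT
    refine ⟨D 1, D (p + e), D (p * (p + 2 * e)), fun x => ?_⟩
    have h3 := hD x
    have h4 := congrArg (T (cv c x) (cv v x)) (kk_id p e c x)
    have h5 := congrArg (T (cv c x) (cv c x)) (kk_id p e v x)
    have h6 := leib0 hvT x
    rw [hT.s12 (cv (der c) x) (cv c x)] at h6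
    rw [← hU x, map_smul, map_add, map_sub, map_smul _ _ (cv c x), map_smul _ _ (cv (der c) x),
      hT.s23 (cv c x) (cv v x) (cv c x), hvT, hT.s23 (cv c x) (cv v x) (cv (der c) x)] at h4
    rw [map_smul, map_add, map_sub, map_smul _ _ (cv v x), map_smul _ _ (cv (der v) x), hvT, hv p, hv' p] at h5
    have h7 : T (cv c x) (cv v x) (U0 + x • U1) = (r0 + r1 * x + r2 * x ^ 2 + r3 * x ^ 3) * B.eval x := by
      rw [hB, hv, map_smul, LinearMap.smul_apply, smul_eq_mul]
    rw [h7] at h4
    simp only [smul_eq_mul] at h4 h5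
    linear_combination (x - p) ^ 3 * h3 - 2 * h4 - h5 - ((x - p) * (x - p + e)) * h6
  -- `B ∈ U`
  obtain ⟨D0, D1, D2, m1⟩ := main (-p ^ 3) (3 * p ^ 2) (-3 * p) 1
  obtain ⟨D0', D1', D2', m2⟩ := main (p ^ 2) (-2 * p) 1 0
  obtain ⟨D0'', D1'', D2'', m3⟩ := main 1 0 0 0
  have n1 : 2 * B + (C D0 * al T c + C D1 * be T c + C D2 * ga T c) = 0 := by
    have h1 : (X - C p) ^ 3 * (2 * B + (C D0 * al T c + C D1 * be T c + C D2 * ga T c)) = 0 := by
      refine Polynomial.funext fun x => ?_
      have h3 := m1 x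
      have r1 : -p ^ 3 + 3 * p ^ 2 * p + -3 * p * p ^ 2 + 1 * p ^ 3 = 0 := by ring
      have r2 : 3 * p ^ 2 + 2 * (-3 * p) * p + 3 * 1 * p ^ 2 = 0 := by ring
      rw [r1, r2] at h3
      simp only [zero_smul, smul_zero, add_zero, map_zero] at h3
      simp only [eval_mul, eval_add, eval_pow, eval_sub, eval_X, eval_C, eval_zero, eval_ofNat]
      linear_combination h3
    exact (mul_eq_zero.mp h1).resolve_left (pow_ne_zero _ (X_sub_C_ne_zero p))
  have n2 : 2 * B + (X - C p) * (C D0' * al T c + C D1' * be T c + C D2' * ga T c) = 0 := by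
    have h1 : (X - C p) ^ 2 * (2 * B + (X - C p) * (C D0' * al T c + C D1' * be T c + C D2' * ga T c)) = 0 := by
      refine Polynomial.funext fun x => ?_
      have h3 := m2 x
      have r1 : p ^ 2 + -2 * p * p + 1 * p ^ 2 + 0 * p ^ 3 = 0 := by ring
      have r2 : -2 * p + 2 * 1 * p + 3 * 0 * p ^ 2 = 0 := by ring
      rw [r1, r2] at h3
      simp only [zero_smul, smul_zero, add_zero, map_zero] at h3
      simp only [eval_mul, eval_add, eval_pow, eval_sub, eval_X, eval_C, eval_zero, eval_ofNat]
      linear_combination h3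
    exact (mul_eq_zero.mp h1).resolve_left (pow_ne_zero _ (X_sub_C_ne_zero p))
  have hf : C (-D0') * al T c + C (-D1') * be T c + C (-D2') * ga T c = 0 := by
    refine eq_zero_of_mem hT h0 hsm hli hsp hrP (p := p) (a1 := -D0') (b1 := -D1') (d1 := -D2')
      (a2 := -D0) (b2 := -D1) (d2 := -D2) rfl ?_
    simp only [C_neg]
    linear_combination n1 - n2
  have hB0 : B = 0 := by
    apply mul_left_cancel₀ h2'
    simp only [C_neg] at hf
    linear_combination n2 + (X - C p) * hf
  -- `A = G(x, p)`
  let A : L[X] := al T c + C p * be T c + C (p ^ 2) * ga T c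
  have hA : ∀ x : L, T (cv c x) (cv c x) (cv c p) = (x - p) ^ 2 * A.eval x := by
    intro x
    rw [T_ccz hT h0, G]
    simp only [A, eval_add, eval_mul, eval_C]
    ring
  have n3 : (X - C p) * (C D0'' * al T c + C D1'' * be T c + C D2'' * ga T c) +
      C (2 * e) * (X - C p + C e) * A = 0 := by
    have h1 : (X - C p) ^ 2 * ((X - C p) * (C D0'' * al T c + C D1'' * be T c + C D2'' * ga T c) +
      C (2 * e) * (X - C p + C e) * A) = 0 := by
      refine Polynomial.funext fun x => ?_
      have h3 := m3 x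
      have h4 := hTU x
      rw [hU] at h4
      rw [hB0, hU p] at h3
      simp only [U1, map_add, map_smul, smul_eq_mul, hA, eval_zero] at h3 h4
      simp only [eval_mul, eval_add, eval_pow, eval_sub, eval_X, eval_C, eval_zero]
      linear_combination h3 - e * h4
    exact (mul_eq_zero.mp h1).resolve_left (pow_ne_zero _ (X_sub_C_ne_zero p))
  have hAp : A.eval p = 0 := by
    have h1 := congrArg (fun f : L[X] => f.eval p) n3
    simp only [eval_mul, eval_add, eval_sub, eval_X, eval_C, sub_self, zero_mul, zero_add, eval_zero] at h1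
    exact (mul_eq_zero.mp h1).resolve_left (mul_ne_zero (mul_ne_zero h2 he) he)
  obtain ⟨A1, hA1⟩ := dvd_iff_isRoot.mpr hAp
  have n4 : C (2 * e ^ 2) * A1 = - (C D0'' * al T c + C D1'' * be T c + C D2'' * ga T c) - C (2 * e) * A := by
    apply mul_left_cancel₀ (X_sub_C_ne_zero p)
    rw [hA1] at n3 ⊢
    simp only [C_mul, C_pow] at n3 ⊢
    linear_combination n3
  have he2 : 2 * e ^ 2 ≠ 0 := mul_ne_zero h2 (pow_ne_zero _ he)
  have hA1' : C (2 * e ^ 2) * A1 = 0 := by
    refine eq_zero_of_mem hT h0 hsm hli hsp hrP (p := p) (a1 := -D0'' - 2 * e) (b1 := -D1'' - 2 * e * p)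
      (d1 := -D2'' - 2 * e * p ^ 2) (a2 := 2 * e ^ 2) (b2 := 2 * e ^ 2 * p) (d2 := 2 * e ^ 2 * p ^ 2) ?_ ?_
    · rw [n4]
      simp only [A, C_sub, C_neg, C_mul, C_pow]
      ring
    · have : (X - C p) * (C (2 * e ^ 2) * A1) = C (2 * e ^ 2) * A := by rw [hA1]; ring
      rw [this]
      simp only [A, C_mul, C_pow]
      ring
  have hA10 : A1 = 0 := (mul_eq_zero.mp hA1').resolve_left (fun h => he2 (C_eq_zero.mp h))
  have hA0 : A = 0 := by rw [hA1, hA10, mul_zero]
  refine no_ev hT h0 hsm hli hsp hG (p := p) fun x => ?_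
  have := congrArg (fun f : L[X] => f.eval x) hA0
  simp only [A, eval_mul, eval_add, eval_C, eval_zero] at this
  linear_combination this

/-- `α, β, γ` are linearly independent for a generic quartic. -/
theorem independent (a b d : L) (h : C a * al T c + C b * be T c + C d * ga T c = 0) :
    a = 0 ∧ b = 0 ∧ d = 0 := by
  by_contra hne
  have hr : ∀ x, a * (al T c).eval x + b * (be T c).eval x + d * (ga T c).eval x = 0 := by
    intro x
    have := congrArg (fun f : L[X] => f.eval x) h
    simpa using this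
  obtain ⟨b', d', h'⟩ := exists_rel hT h0 hG hr hne
  obtain ⟨p, hp⟩ := IsAlgClosed.exists_root (X ^ 2 - C (2 * b') * X + C d' : L[X]) (by
    have : (X ^ 2 - C (2 * b') * X + C d' : L[X]).degree = 2 := by compute_degree!
    rw [this]; norm_num)
  have hp' : p ^ 2 - 2 * b' * p + d' = 0 := by simpa using hp
  refine no_rel hT h0 hsm hli hsp hG (p := p) (e := b' - p) fun x => ?_
  linear_combination h' x - (ga T c).eval x * hp'

end

end K304.ChordInd
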