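import Groth.Agent.Fano.K304.ChordSimp

/-!
# Rational quartics on a cubic threefold: all zeros of `(G(x,z), G(z,x))` are simple for a generic quartic
-/

set_option autoImplicit false
set_option linter.unusedSimpArgs false

universe u v

namespace K304.ChordMain

open Polynomial K656.Trilin K304.ChordBase K304.ChordSurj K304.ChordInd K304.ChordSimp Module

variable {L : Type u} [Field L] {V : Type v} [AddCommGroup V] [Module L V] {T : V →ₗ[L] V →ₗ[L] V →ₗ[L] L}

theorem exists_row {m11 m12 m21 m22 : L} (h : m11 * m22 = m12 * m21) :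
    ∃ a b : L, (a ≠ 0 ∨ b ≠ 0) ∧ a * m11 + b * m21 = 0 ∧ a * m12 + b * m22 = 0 := by
  by_cases h1 : m11 ≠ 0 ∨ m21 ≠ 0
  · exact ⟨m21, -m11, by simpa [or_comm] using h1, by ring, by linear_combination -h⟩
  · push Not at h1
    by_cases h2 : m12 ≠ 0 ∨ m22 ≠ 0
    · exact ⟨m22, -m12, by simpa [or_comm] using h2, by rw [h1.1, h1.2]; ring, by ring⟩
    · push Not at h2
      exact ⟨1, 0, Or.inl one_ne_zero, by rw [h1.1]; ring, by rw [h2.1]; ring⟩

theorem pencil (hT : IsSym3 T) (hsm : ∀ v : V, v ≠ 0 → ∃ w, T v v w ≠ 0) {e f : V}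
    (hef : ∀ x y : L, x • e + y • f = 0 → x = 0 ∧ y = 0) (x y : L) (hxy : x ≠ 0 ∨ y ≠ 0) :
    (x ^ 2) • T e e + (2 * (x * y)) • T e f + (y ^ 2) • T f f ≠ 0 := by
  intro h
  have h1 : x • e + y • f ≠ 0 := by
    intro h2
    obtain ⟨h3, h4⟩ := hef x y h2
    rcases hxy with h5 | h5
    · exact h5 h3
    · exact h5 h4
  obtain ⟨w, hw⟩ := hsm _ h1
  apply hw
  have h2 := congrArg (fun g : V →ₗ[L] L => g w) h
  simp only [LinearMap.add_apply, LinearMap.smul_apply, smul_eq_mul, LinearMap.zero_apply] at h2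
  simp only [map_add, map_smul, LinearMap.add_apply, LinearMap.smul_apply, smul_eq_mul]
  rw [hT.s12 f e]
  linear_combination h2

section indep

variable {c : Fin 5 → V} (hli : LinearIndependent L c)
include hli

theorem coef_zero {g : Fin 5 → L} (h : g 0 • c 0 + g 1 • c 1 + g 2 • c 2 + g 3 • c 3 + g 4 • c 4 = 0) (m : Fin 5) :
    g m = 0 :=
  Fintype.linearIndependent_iff.mp hli g (by rw [Fin.sum_univ_five]; exact h) m

theorem indep_two {p q : L} (hpq : p ≠ q) (x y : L) (h : x • cv c p + y • cv c q = 0) : x = 0 ∧ y = 0 := by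
  have h1 := coef_zero hli (g := ![x + y, x * p + y * q, x * p ^ 2 + y * q ^ 2, x * p ^ 3 + y * q ^ 3,
    x * p ^ 4 + y * q ^ 4]) (by
      rw [← h, cv_eq, cv_eq]
      simp only [Matrix.cons_val]
      module)
  have h2 : x + y = 0 := h1 0
  have h3 : x * p + y * q = 0 := h1 1
  have h4 : y * (q - p) = 0 := by linear_combination h3 - p * h2
  have hy : y = 0 := (mul_eq_zero.mp h4).resolve_right (sub_ne_zero.mpr hpq.symm)
  rw [hy, add_zero] at h2
  exact ⟨h2, hy⟩

theorem indep_jet (p x y : L) (h : x • cv c p + y • cv (der c) p = 0) : x = 0 ∧ y = 0 := by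
  have h1 := coef_zero hli (g := ![x, x * p + y, x * p ^ 2 + y * (2 * p), x * p ^ 3 + y * (3 * p ^ 2),
    x * p ^ 4 + y * (4 * p ^ 3)]) (by
      rw [← h, cv_eq, cv_der]
      simp only [Matrix.cons_val]
      module)
  have h2 : x = 0 := h1 0
  have h3 : x * p + y = 0 := h1 1
  rw [h2, zero_mul, zero_add] at h3
  exact ⟨h2, h3⟩

theorem indep_inf (p x y : L) (h : x • cv c p + y • c 4 = 0) : x = 0 ∧ y = 0 := by
  have h1 := coef_zero hli (g := ![x, x * p, x * p ^ 2, x * p ^ 3, x * p ^ 4 + y]) (by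
      rw [← h, cv_eq]
      simp only [Matrix.cons_val]
      module)
  have h2 : x = 0 := h1 0
  have h3 : x * p ^ 4 + y = 0 := h1 4
  rw [h2, zero_mul, zero_add] at h3
  exact ⟨h2, h3⟩

theorem indep_jet_inf (x y : L) (h : x • c 4 + y • c 3 = 0) : x = 0 ∧ y = 0 := by
  have h1 := coef_zero hli (g := ![0, 0, 0, y, x]) (by
      rw [← h]
      simp only [Matrix.cons_val]
      module)
  exact ⟨h1 4, h1 3⟩

end indep

variable [CharZero L] [IsAlgClosed L] (hT : IsSym3 T) {c : Fin 5 → V}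
  (h0 : ∀ x : L, T (cv c x) (cv c x) (cv c x) = 0)
  (hsm : ∀ v : V, v ≠ 0 → ∃ w, T v v w ≠ 0) (hli : LinearIndependent L c)
  (hsp : Submodule.span L (Set.range c) = ⊤) (hG : Gen T c)
include hT h0 hsm hli hsp hG

theorem hSurj : ∀ F : L[X], F.natDegree ≤ 10 → F ∈ Q2 T c := fun _ hF =>
  surj hT h0 hsm hli hsp (independent hT h0 hsm hli hsp hG) hF

/-- Honest chords are simple. -/
theorem simple {p q : L} (hpq : p ≠ q) (h1 : T (cv c p) (cv c p) (cv c q) = 0)
    (h2 : T (cv c q) (cv c q) (cv c p) = 0) :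
    (2 * T (cv c p) (cv (der c) p) (cv c q)) * (2 * T (cv c q) (cv (der c) q) (cv c p)) ≠
      T (cv c p) (cv c p) (cv (der c) q) * T (cv c q) (cv c q) (cv (der c) p) := by
  intro hdet
  obtain ⟨a, b, hab, r1, r2⟩ := exists_row hdet
  have key : ∀ u w : V, T (cv c p) (cv c p) u = 0 → T (cv c q) (cv c q) w = 0 →
      a * (2 * T (cv c p) (cv c q) u + T (cv c p) (cv c p) w) +
        b * (T (cv c q) (cv c q) u + 2 * T (cv c p) (cv c q) w) = 0 := by
    intro u w hu hw
    obtain ⟨v, hv, hvp, hvq⟩ := ext_two (hSurj hT h0 hsm hli hsp hG) hpq hu hw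
    obtain ⟨D, E, hDE, hE⟩ := hG v hv
    have k1 := hDE.tri (cv c p) (cv c p) (cv c q)
    have k2 := hDE.tri (cv c q) (cv c q) (cv c p)
    rw [h1, D.map_zero, hDE.cv hE, hDE.cv hE, hvp, hvq] at k1
    rw [h2, D.map_zero, hDE.cv hE, hDE.cv hE, hvp, hvq] at k2
    simp only [map_add, map_smul, LinearMap.add_apply, LinearMap.smul_apply, smul_eq_mul] at k1 k2
    rw [hT.rot u (cv c p) (cv c q), hT.s23 (cv c p) u (cv c q), hT.s12 (cv (der c) p) (cv c p) (cv c q)] at k1
    rw [hT.s13 w (cv c q) (cv c p), hT.rot' (cv c q) w (cv c p), hT.s12 (cv (der c) q) (cv c q) (cv c p)] at k2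
    linear_combination -a * k1 - b * k2 - D p * r1 - D q * r2
  obtain ⟨s, hs⟩ := prop_of (l := T (cv c p) (cv c p))
    (f := (2 * a) • T (cv c p) (cv c q) + b • T (cv c q) (cv c q)) (fun u hu => by
      have := key u 0 hu (map_zero _)
      simp only [map_zero] at this
      simp only [LinearMap.add_apply, LinearMap.smul_apply, smul_eq_mul]
      linear_combination this)
  obtain ⟨r, hr⟩ := prop_of (l := T (cv c q) (cv c q))
    (f := a • T (cv c p) (cv c p) + (2 * b) • T (cv c p) (cv c q)) (fun w hw => by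
      have := key 0 w (map_zero _) hw
      simp only [map_zero] at this
      simp only [LinearMap.add_apply, LinearMap.smul_apply, smul_eq_mul]
      linear_combination this)
  obtain ⟨ha, hb⟩ := la1 (pencil hT hsm (indep_two hli hpq)) hs hr
  rcases hab with h | h
  · exact h ha
  · exact h hb

/-- No chord through the point at infinity. -/
theorem no_inf {p : L} (h1 : T (cv c p) (cv c p) (c 4) = 0) (h2 : T (c 4) (c 4) (cv c p) = 0) : False := by
  obtain ⟨a, b, hab, r1, -⟩ := exists_row (m11 := 2 * T (cv c p) (cv (der c) p) (c 4)) (m12 := 0)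
    (m21 := T (c 4) (c 4) (cv (der c) p)) (m22 := 0) (by ring)
  have key : ∀ u w : V, T (cv c p) (cv c p) u = 0 → T (c 4) (c 4) w = 0 →
      a * (2 * T (cv c p) (c 4) u + T (cv c p) (cv c p) w) +
        b * (T (c 4) (c 4) u + 2 * T (cv c p) (c 4) w) = 0 := by
    intro u w hu hw
    obtain ⟨v, hv, hvp, hvq⟩ := ext_inf (hSurj hT h0 hsm hli hsp hG) hu hw
    obtain ⟨D, E, hDE, hE⟩ := hG v hv
    have k1 := hDE.tri (cv c p) (cv c p) (c 4)
    have k2 := hDE.tri (c 4) (c 4) (cv c p)
    rw [h1, D.map_zero, hDE.cv hE, hE, hvp, hvq] at k1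
    rw [h2, D.map_zero, hDE.cv hE, hE, hvp, hvq] at k2
    simp only [map_add, map_smul, LinearMap.add_apply, LinearMap.smul_apply, smul_eq_mul] at k1 k2
    rw [hT.rot u (cv c p) (c 4), hT.s23 (cv c p) u (c 4), hT.s12 (cv (der c) p) (cv c p) (c 4)] at k1
    rw [hT.s13 w (c 4) (cv c p), hT.rot' (c 4) w (cv c p)] at k2
    linear_combination -a * k1 - b * k2 - D p * r1
  obtain ⟨s, hs⟩ := prop_of (l := T (cv c p) (cv c p))
    (f := (2 * a) • T (cv c p) (c 4) + b • T (c 4) (c 4)) (fun u hu => by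
      have := key u 0 hu (map_zero _)
      simp only [map_zero] at this
      simp only [LinearMap.add_apply, LinearMap.smul_apply, smul_eq_mul]
      linear_combination this)
  obtain ⟨r, hr⟩ := prop_of (l := T (c 4) (c 4))
    (f := a • T (cv c p) (cv c p) + (2 * b) • T (cv c p) (c 4)) (fun w hw => by
      have := key 0 w (map_zero _) hw
      simp only [map_zero] at this
      simp only [LinearMap.add_apply, LinearMap.smul_apply, smul_eq_mul]
      linear_combination this)
  obtain ⟨ha, hb⟩ := la1 (pencil hT hsm (indep_inf hli p)) hs hr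
  rcases hab with h | h
  · exact h ha
  · exact h hb

/-- No tangent chord at infinity. -/
theorem no_tan_inf : T (c 3) (c 3) (c 4) ≠ 0 := by
  intro h1
  obtain ⟨w0, hw0⟩ := hsm _ (hli.ne_zero 4)
  have hl : T (c 4) (c 4) ≠ 0 := fun h => hw0 (by rw [h]; rfl)
  obtain ⟨s, t, e1, e2⟩ := prop_of2 (l := T (c 4) (c 4)) (m := T (c 4) (c 3)) hl (f := T (c 3) (c 3))
    (g := (2 : L) • T (c 4) (c 3)) (fun u w hu hw => by
      obtain ⟨v, hv, hv4, hv3⟩ := ext_jet_inf (hSurj hT h0 hsm hli hsp hG) hT hu (by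
        rw [hT.s12 (c 3) (c 4)]; exact hw)
      obtain ⟨D, E, hDE, hE⟩ := hG v hv
      have k1 := hDE.tri (c 3) (c 3) (c 4)
      rw [h1, D.map_zero, hE, hE, hv4, hv3] at k1
      rw [hT.s13 w (c 3) (c 4), hT.rot' (c 3) w (c 4)] at k1
      simp only [LinearMap.smul_apply, smul_eq_mul]
      linear_combination -k1)
  have := la3 (pencil hT hsm (indep_jet_inf hli)) (a := 1) (b := 0) (s := s) (t := t) (by simpa using e1)
    (by simpa using e2)
  exact one_ne_zero this.1

omit [IsAlgClosed L] hsm hli hsp hG in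
theorem jet1 (p : L) : T (cv c p) (cv (der c) p) (cv (der c) p) = - G T c p p := by
  have h2 := T_cc'c' hT h0 p
  rw [cv_der (der c)] at h2
  simp only [der, Matrix.cons_val, map_add, map_smul, smul_eq_mul, map_nsmul, nsmul_eq_mul, map_zero, mul_zero] at h2
  have h3 := e2 (T := T) c p
  have h4 := e3 (T := T) c p
  have h5 := e4 (T := T) c p
  have h6 : T (cv c p) (cv c p) (c 4) = (ga T c).eval p := h5
  rw [h3, h4, h6] at h2
  have h7 : (2 : L) ≠ 0 := by norm_num
  apply mul_left_cancel₀ h7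
  have e : cv ![c 1, 2 • c 2, 3 • c 3, 4 • c 4, 0] p = cv (der c) p := rfl
  rw [e] at h2
  push_cast at h2
  simp only [G]
  linear_combination h2

omit [CharZero L] [IsAlgClosed L] hT h0 hsm hli hsp hG in
theorem cv_der2 (c : Fin 5 → V) (p : L) :
    cv (der (der c)) p = (2 : L) • c 2 + (6 * p) • c 3 + (12 * p ^ 2) • c 4 := by
  rw [cv_der]
  simp only [der, Matrix.cons_val]
  module

omit [IsAlgClosed L] hsm hli hsp hG h0 in
theorem jet2 (p : L) : 2 * T (cv c p) (cv (der c) p) (cv (der (der c)) p) = 2 * Gx T c p p - 4 * Gz T c p p := by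
  rw [cv_der2]
  simp only [map_add, map_smul, smul_eq_mul]
  have h2 := e2' hT c p
  have h3 := e3' hT c p
  have h4 := e4' hT c p
  simp only [Gx, Gz]
  linear_combination 2 * h2 + 6 * p * h3 + 12 * p ^ 2 * h4

omit hsm hli hsp hG [IsAlgClosed L] in
theorem jet3 (p : L) : T (cv (der c) p) (cv (der c) p) (cv (der c) p) = 3 * Gz T c p p - 3 * Gx T c p p := by
  have h1 := leib (T := T) (a := c) (b := der c) (d := der c)
    (f := -(al T c + X * be T c + X ^ 2 * ga T c)) (fun x => by
      rw [jet1 hT h0]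
      simp only [G, eval_neg, eval_add, eval_mul, eval_pow, eval_X]
      ring) p
  rw [hT.s23 (cv c p) (cv (der (der c)) p)] at h1
  have h2 := jet2 hT (c := c) p
  have h3 : (derivative (-(al T c + X * be T c + X ^ 2 * ga T c))).eval p = - Gx T c p p - Gz T c p p := by
    simp only [Gx, Gz, derivative_neg, derivative_add, derivative_mul, derivative_X, derivative_X_pow, eval_neg,
      eval_add, eval_mul, eval_pow, eval_X, eval_one, eval_C]
    push_cast
    ring
  rw [h3] at h1
  linear_combination h1 - h2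

/-- Zeros on the diagonal are simple. -/
theorem diag {p : L} (h : G T c p p = 0) : Gx T c p p * Gx T c p p ≠ Gz T c p p * Gz T c p p := by
  intro hdet
  have t1 : T (cv c p) (cv (der c) p) (cv (der c) p) = 0 := by rw [jet1 hT h0, h, neg_zero]
  obtain ⟨w0, hw0⟩ := hsm _ (cv_ne_zero hli p)
  have hl : T (cv c p) (cv c p) ≠ 0 := fun h => hw0 (by rw [h]; rfl)
  obtain ⟨a, b, hab, r1, r2⟩ : ∃ a b : L, (a ≠ 0 ∨ b ≠ 0) ∧
      a * (- Gx T c p p - Gz T c p p) + b * T (cv (der c) p) (cv (der c) p) (cv (der (der c)) p) = 0 ∧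
      b * (3 * Gz T c p p - 3 * Gx T c p p) = 0 := by
    have h1 : (Gx T c p p - Gz T c p p) * (Gx T c p p + Gz T c p p) = 0 := by linear_combination hdet
    rcases mul_eq_zero.mp h1 with h2 | h2
    · obtain ⟨a, b, hab, r, -⟩ := exists_row (m11 := - Gx T c p p - Gz T c p p) (m12 := 0)
        (m21 := T (cv (der c) p) (cv (der c) p) (cv (der (der c)) p)) (m22 := 0) (by ring)
      exact ⟨a, b, hab, r, by linear_combination (-3 * b) * h2⟩
    · exact ⟨1, 0, Or.inl one_ne_zero, by linear_combination -h2, by ring⟩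
  obtain ⟨s, t, e1, e2⟩ := prop_of2 (l := T (cv c p) (cv c p)) (m := T (cv c p) (cv (der c) p)) hl
    (f := a • T (cv (der c) p) (cv (der c) p))
    (g := (2 * a) • T (cv c p) (cv (der c) p) + b • T (cv (der c) p) (cv (der c) p)) (fun u w hu hw => by
      obtain ⟨v, hv, hv1, hv2⟩ := ext_jet (hSurj hT h0 hsm hli hsp hG) hT hu hw
      obtain ⟨D, E, hDE, hE⟩ := hG v hv
      have k0 := hDE.cv hE p
      have k1 := hDE.cv (c := der c) (v := der v) (E_der hE) p
      rw [hv1] at k0
      rw [hv2] at k1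
      have k2 := hDE.tri (cv c p) (cv (der c) p) (cv (der c) p)
      rw [t1, D.map_zero, k0, k1] at k2
      simp only [map_add, map_smul, LinearMap.add_apply, LinearMap.smul_apply, smul_eq_mul] at k2 ⊢
      rw [hT.rot u, hT.s23 (cv c p) w, hT.s23 (cv c p) (cv (der (der c)) p), jet3 hT h0] at k2
      have k3 := jet2 hT (c := c) p
      have k4 : b * (T (cv (der c) p) (cv (der c) p) w +
          D p * T (cv (der c) p) (cv (der c) p) (cv (der (der c)) p)) = 0 := by
        by_cases hb : b = 0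
        · rw [hb, zero_mul]
        · have t2 : T (cv (der c) p) (cv (der c) p) (cv (der c) p) = 0 := by
            rw [jet3 hT h0]; exact (mul_eq_zero.mp r2).resolve_left hb
          have k5 := hDE.tri (cv (der c) p) (cv (der c) p) (cv (der c) p)
          rw [t2, D.map_zero, k1] at k5
          simp only [map_add, map_smul, LinearMap.add_apply, LinearMap.smul_apply, smul_eq_mul] at k5
          rw [hT.rot w, hT.rot (cv (der (der c)) p), hT.s23 (cv (der c) p) w,
            hT.s23 (cv (der c) p) (cv (der (der c)) p)] at k5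
          have h3 : (3 : L) ≠ 0 := by norm_num
          apply mul_left_cancel₀ h3
          linear_combination -b * k5
      linear_combination -a * k2 + k4 - D p * r1 - a * D p * k3)
  obtain ⟨ha, hb⟩ := la3 (pencil hT hsm (indep_jet hli p)) e1 e2
  rcases hab with h | h
  · exact h ha
  · exact h hb

/-- The hypotheses of the counting lemma. -/
theorem count_hyps :
    (al T c).natDegree ≤ 6 ∧ (be T c).natDegree ≤ 6 ∧ (ga T c).natDegree ≤ 6 ∧
    (∀ x, ¬ ((al T c).eval x = 0 ∧ (be T c).eval x = 0 ∧ (ga T c).eval x = 0)) ∧ (ga T c).coeff 6 ≠ 0 ∧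
    (∀ z, (ga T c).eval z = 0 → (al T c).coeff 6 + (be T c).coeff 6 * z + (ga T c).coeff 6 * z ^ 2 ≠ 0) ∧
    (∀ x z, G T c x z = 0 → G T c z x = 0 → Gx T c x z * Gx T c z x ≠ Gz T c x z * Gz T c z x) := by
  refine ⟨natDegree_al hT h0, natDegree_be hT h0, natDegree_ga hT h0, no_zero hT h0 hsm hli hsp, ?_, ?_, ?_⟩
  · rw [coeff_ga' hT h0]
    exact neg_ne_zero.mpr (no_tan_inf hT h0 hsm hli hsp hG)
  · intro z hz h
    refine no_inf hT h0 hsm hli hsp hG (p := z) (by rw [e4, hz]) ?_
    rw [cv_eq]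
    simp only [map_add, map_smul, smul_eq_mul]
    rw [← coeff_al hT h0, ← coeff_be hT h0, ← coeff_ga hT h0, T443 hT h0, T444 hT h0]
    linear_combination h
  · intro x z h1 h2
    by_cases hxz : x = z
    · subst hxz
      exact diag hT h0 hsm hli hsp hG h1
    · have h3 := simple hT h0 hsm hli hsp hG hxz (by rw [T_ccz hT h0, h1, mul_zero])
        (by rw [T_ccz hT h0, h2, mul_zero])
      intro h4
      apply h3
      rw [T_cc'z hT h0, T_cc'z hT h0, T_ccz' hT h0, T_ccz' hT h0, h1, h2]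
      linear_combination (x - z) ^ 4 * h4

end K304.ChordMain
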