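import Groth.Agent.Fano.K304.ChordInd
import Groth.Agent.Fano.K714.Surf

/-!
# Rational quartics on a cubic threefold: the chords of a generic quartic are simple
-/

set_option autoImplicit false
set_option linter.unusedSimpArgs false

universe u v

namespace K304.ChordSimp

open Polynomial K656.Trilin K304.ChordBase K304.ChordSurj K304.ChordInd Module

variable {L : Type u} [Field L] {V : Type v} [AddCommGroup V] [Module L V] {T : V →ₗ[L] V →ₗ[L] V →ₗ[L] L}

/-! ### Tangent vectors with prescribed values -/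

theorem natDegree_of_mul {p : L} {f : L[X]} {n : ℕ} (h : ((X - C p) * f).natDegree ≤ n + 1) :
    f.natDegree ≤ n := by
  by_cases hf : f = 0
  · simp [hf]
  · rw [natDegree_mul (X_sub_C_ne_zero p) hf, natDegree_X_sub_C] at h
    omega

theorem natDegree_X_sub_C_mul {p : L} {f : L[X]} {n : ℕ} (h : f.natDegree ≤ n) :
    ((X - C p) * f).natDegree ≤ n + 1 := by
  refine natDegree_mul_le.trans ?_
  rw [natDegree_X_sub_C]
  omega

section

variable {c : Fin 5 → V} (hS : ∀ F : L[X], F.natDegree ≤ 10 → F ∈ Q2 T c)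
include hS

theorem ext_two {p q : L} (hpq : p ≠ q) {u w : V} (hu : T (cv c p) (cv c p) u = 0)
    (hw : T (cv c q) (cv c q) w = 0) :
    ∃ v : Fin 5 → V, (∀ x : L, T (cv c x) (cv c x) (cv v x) = 0) ∧ cv v p = u ∧ cv v q = w := by
  have hd : p - q ≠ 0 := sub_ne_zero.mpr hpq
  let F0 : L[X] := C (p - q)⁻¹ * ((X - C q) * lam T c u - (X - C p) * lam T c w)
  have h1 : F0.eval p = 0 := by simp [F0, eval_lam, hu]
  have h2 : F0.eval q = 0 := by simp [F0, eval_lam, hw]
  obtain ⟨F1, hF1⟩ := dvd_iff_isRoot.mpr h1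
  have h3 : F1.eval q = 0 := by
    rw [hF1] at h2
    simp only [eval_mul, eval_sub, eval_X, eval_C] at h2
    exact (mul_eq_zero.mp h2).resolve_left (sub_ne_zero.mpr hpq.symm)
  obtain ⟨F2, hF2⟩ := dvd_iff_isRoot.mpr h3
  have hdeg : F0.natDegree ≤ 9 := by
    refine (natDegree_C_mul_le _ _).trans ?_
    exact (natDegree_sub_le_of_le (natDegree_X_sub_C_mul (natDegree_lam _ _))
      (natDegree_X_sub_C_mul (natDegree_lam _ _))).trans (by norm_num)
  have hdeg2 : F2.natDegree ≤ 7 :=
    natDegree_of_mul (by rw [← hF2]; exact natDegree_of_mul (by rw [← hF1]; exact hdeg))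
  obtain ⟨w0, w1, w2, hw'⟩ := hS (-F2) (by rw [natDegree_neg]; omega)
  let v : Fin 5 → V := ![(p - q)⁻¹ • (p • w - q • u) + (p * q) • w0,
    (p - q)⁻¹ • (u - w) - (p + q) • w0 + (p * q) • w1, w0 - (p + q) • w1 + (p * q) • w2, w1 - (p + q) • w2, w2]
  have hv : ∀ x : L, cv v x = (p - q)⁻¹ • ((x - q) • u - (x - p) • w) +
      ((x - p) * (x - q)) • (w0 + x • w1 + x ^ 2 • w2) := by
    intro x
    rw [cv_eq]
    simp only [v, Matrix.cons_val]
    module
  refine ⟨v, fun x => ?_, ?_, ?_⟩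
  · rw [hv, map_add, map_smul _ ((x - p) * (x - q)), hw']
    have h4 : F0.eval x = T (cv c x) (cv c x) ((p - q)⁻¹ • ((x - q) • u - (x - p) • w)) := by
      simp only [F0, eval_mul, eval_sub, eval_C, eval_X, eval_lam, map_smul, map_sub, smul_eq_mul]
    rw [← h4, hF1, hF2]
    simp only [eval_mul, eval_sub, eval_C, eval_X, eval_neg, smul_eq_mul]
    ring
  · rw [hv, sub_self, zero_mul, zero_smul, zero_smul, add_zero, sub_zero, smul_smul, inv_mul_cancel₀ hd, one_smul]
  · rw [hv, sub_self, mul_zero, zero_smul, zero_smul, add_zero, zero_sub, ← neg_smul, smul_smul,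
      neg_sub, inv_mul_cancel₀ hd, one_smul]

theorem ext_inf {p : L} {u w : V} (hu : T (cv c p) (cv c p) u = 0)
    (hw : T (c 4) (c 4) w = 0) :
    ∃ v : Fin 5 → V, (∀ x : L, T (cv c x) (cv c x) (cv v x) = 0) ∧ cv v p = u ∧ v 4 = w := by
  let F0 : L[X] := lam T c u + X ^ 3 * ((X - C p) * lam T c w)
  have h1 : F0.eval p = 0 := by simp [F0, eval_lam, hu]
  obtain ⟨F1, hF1⟩ := dvd_iff_isRoot.mpr h1
  have hw7 : (lam T c w).natDegree ≤ 7 := by
    rw [natDegree_le_iff_coeff_eq_zero]
    intro N hN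
    rcases Nat.lt_or_ge N 9 with h | h
    · obtain rfl : N = 8 := by omega
      rw [coeff_lam_eight, hw]
    · exact coeff_eq_zero_of_natDegree_lt (lt_of_le_of_lt (natDegree_lam _ _) (by omega))
  have hdeg : F0.natDegree ≤ 11 := by
    refine natDegree_add_le_of_degree_le ((natDegree_lam _ _).trans (by norm_num)) ?_
    refine natDegree_mul_le.trans ?_
    have h2 := natDegree_X_sub_C_mul (p := p) hw7
    have h3 := natDegree_X_pow_le (R := L) 3
    omega
  have hdeg2 : F1.natDegree ≤ 10 := natDegree_of_mul (by rw [← hF1]; exact hdeg)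
  obtain ⟨w0, w1, w2, hw'⟩ := hS (-F1) (by rw [natDegree_neg]; omega)
  let v : Fin 5 → V := ![u - p • w0, w0 - p • w1, w1 - p • w2, w2 - p • w, w]
  have hv : ∀ x : L, cv v x = u + (x ^ 3 * (x - p)) • w + (x - p) • (w0 + x • w1 + x ^ 2 • w2) := by
    intro x
    rw [cv_eq]
    simp only [v, Matrix.cons_val]
    module
  refine ⟨v, fun x => ?_, ?_, rfl⟩
  · rw [hv, map_add, map_smul _ (x - p), hw']
    have h4 : F0.eval x = T (cv c x) (cv c x) (u + (x ^ 3 * (x - p)) • w) := by
      simp only [F0, eval_mul, eval_add, eval_pow, eval_sub, eval_C, eval_X, eval_lam, map_smul, map_add,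
        smul_eq_mul]
      ring
    rw [← h4, hF1]
    simp only [eval_mul, eval_sub, eval_C, eval_X, eval_neg, smul_eq_mul]
    ring
  · rw [hv]; simp

theorem ext_jet [CharZero L] (hT : IsSym3 T) {p : L} {u w : V} (hu : T (cv c p) (cv c p) u = 0)
    (hw : 2 * T (cv c p) (cv (der c) p) u + T (cv c p) (cv c p) w = 0) :
    ∃ v : Fin 5 → V, (∀ x : L, T (cv c x) (cv c x) (cv v x) = 0) ∧ cv v p = u ∧ cv (der v) p = w := by
  let F0 : L[X] := lam T c u + (X - C p) * lam T c w
  have h1 : F0.eval p = 0 := by simp [F0, eval_lam, hu]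
  obtain ⟨F1, hF1⟩ := dvd_iff_isRoot.mpr h1
  have h2 : (derivative F0).eval p = 0 := by
    simp only [F0, derivative_add, derivative_mul, derivative_sub, derivative_X, derivative_C, eval_add,
      eval_mul, eval_sub, eval_one, eval_zero, eval_X, eval_C, eval_derivative_lam hT, eval_lam]
    linear_combination hw
  have h3 : F1.eval p = 0 := by
    rw [hF1] at h2
    simpa using h2
  obtain ⟨F2, hF2⟩ := dvd_iff_isRoot.mpr h3
  have hdeg : F0.natDegree ≤ 9 :=
    natDegree_add_le_of_degree_le ((natDegree_lam _ _).trans (by norm_num))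
      (natDegree_X_sub_C_mul (natDegree_lam _ _))
  have hdeg2 : F2.natDegree ≤ 7 :=
    natDegree_of_mul (by rw [← hF2]; exact natDegree_of_mul (by rw [← hF1]; exact hdeg))
  obtain ⟨w0, w1, w2, hw'⟩ := hS (-F2) (by rw [natDegree_neg]; omega)
  let v : Fin 5 → V := ![u - p • w + p ^ 2 • w0, w - (2 * p) • w0 + p ^ 2 • w1,
    w0 - (2 * p) • w1 + p ^ 2 • w2, w1 - (2 * p) • w2, w2]
  have hv : ∀ x : L, cv v x = (u + (x - p) • w) + ((x - p) ^ 2) • (w0 + x • w1 + x ^ 2 • w2) := by
    intro x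
    rw [cv_eq]
    simp only [v, Matrix.cons_val]
    module
  refine ⟨v, fun x => ?_, ?_, ?_⟩
  · rw [hv, map_add, map_smul _ ((x - p) ^ 2), hw']
    have h4 : F0.eval x = T (cv c x) (cv c x) (u + (x - p) • w) := by
      simp only [F0, eval_mul, eval_add, eval_sub, eval_C, eval_X, eval_lam, map_smul, map_add, smul_eq_mul]
    rw [← h4, hF1, hF2]
    simp only [eval_mul, eval_sub, eval_C, eval_X, eval_neg, smul_eq_mul]
    ring
  · rw [hv]; simp
  · rw [cv_der]
    simp only [v, Matrix.cons_val]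
    module

theorem ext_jet_inf (hT : IsSym3 T) {u w : V} (hu : T (c 4) (c 4) u = 0)
    (hw : 2 * T (c 3) (c 4) u + T (c 4) (c 4) w = 0) :
    ∃ v : Fin 5 → V, (∀ x : L, T (cv c x) (cv c x) (cv v x) = 0) ∧ v 4 = u ∧ v 3 = w := by
  let F0 : L[X] := X * lam T c u + lam T c w
  have h7 : F0.natDegree ≤ 7 := by
    rw [natDegree_le_iff_coeff_eq_zero]
    intro N hN
    obtain ⟨M, rfl⟩ : ∃ M, N = M + 1 := ⟨N - 1, by omega⟩
    simp only [F0, coeff_add, coeff_X_mul]
    rcases Nat.lt_or_ge M 9 with h | h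
    · rcases Nat.lt_or_ge M 8 with h' | h'
      · obtain rfl : M = 7 := by omega
        rw [coeff_lam_seven hT, coeff_lam_eight, hw]
      · obtain rfl : M = 8 := by omega
        rw [coeff_lam_eight, hu, zero_add]
        exact coeff_eq_zero_of_natDegree_lt (lt_of_le_of_lt (natDegree_lam _ _) (by omega))
    · rw [coeff_eq_zero_of_natDegree_lt (lt_of_le_of_lt (natDegree_lam _ _) (by omega)),
        coeff_eq_zero_of_natDegree_lt (lt_of_le_of_lt (natDegree_lam _ _) (by omega)), add_zero]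
  obtain ⟨w0, w1, w2, hw'⟩ := hS (-(X ^ 3 * F0)) (by
    rw [natDegree_neg]
    refine natDegree_mul_le.trans ?_
    have h3 := natDegree_X_pow_le (R := L) 3
    omega)
  refine ⟨![w0, w1, w2, w, u], fun x => ?_, rfl, rfl⟩
  have hv : cv ![w0, w1, w2, w, u] x = (w0 + x • w1 + x ^ 2 • w2) + x ^ 3 • (w + x • u) := by
    rw [cv_eq]
    simp only [Matrix.cons_val]
    module
  rw [hv, map_add, hw']
  simp only [F0, eval_neg, eval_mul, eval_add, eval_pow, eval_X, eval_lam, map_smul, map_add, smul_eq_mul]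
  ring

end

/-! ### Linear algebra -/

section LA

variable {l m n : V →ₗ[L] L}

theorem prop_of {f : V →ₗ[L] L} (h : ∀ u, l u = 0 → f u = 0) : ∃ s : L, f = s • l := by
  by_cases hl : l = 0
  · exact ⟨0, LinearMap.ext fun u => by rw [h u (by simp [hl])]; simp⟩
  · obtain ⟨e, he⟩ : ∃ e, l e ≠ 0 := by
      by_contra hc
      push Not at hc
      exact hl (LinearMap.ext hc)
    refine ⟨f e / l e, LinearMap.ext fun u => ?_⟩
    have h1 := h (u - (l u / l e) • e) (by simp [he])
    rw [map_sub, map_smul, smul_eq_mul, sub_eq_zero] at h1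
    rw [h1, LinearMap.smul_apply, smul_eq_mul]
    field_simp

theorem prop_of2 (hl : l ≠ 0) {f g : V →ₗ[L] L} (h : ∀ u w, l u = 0 → 2 * m u + l w = 0 → f u + g w = 0) :
    ∃ s t : L, f = s • l + (2 * t) • m ∧ g = t • l := by
  obtain ⟨e, he⟩ : ∃ e, l e ≠ 0 := by
    by_contra hc
    push Not at hc
    exact hl (LinearMap.ext hc)
  obtain ⟨t, ht⟩ := prop_of (l := l) (f := g) (fun w hw => by simpa using h 0 w (map_zero _) (by simp [hw]))
  obtain ⟨s, hs⟩ := prop_of (l := l) (f := f - (2 * t) • m) (fun u hu => by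
    have h1 := h u (-(2 * m u / l e) • e) hu (by
      rw [map_smul, smul_eq_mul]; field_simp; ring)
    rw [ht, LinearMap.smul_apply, map_smul, smul_eq_mul, smul_eq_mul] at h1
    rw [LinearMap.sub_apply, LinearMap.smul_apply, smul_eq_mul]
    field_simp at h1
    linear_combination h1)
  exact ⟨s, t, by rw [← hs]; abel, ht⟩

variable [CharZero L] [IsAlgClosed L]
  (h : ∀ x y : L, x ≠ 0 ∨ y ≠ 0 → (x ^ 2) • l + (2 * (x * y)) • m + (y ^ 2) • n ≠ 0)
include h

theorem rel_conic {a b d : L} (hc : b ^ 2 = 4 * (a * d)) (hr : a • l + b • m + d • n = 0) :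
    a = 0 ∧ b = 0 ∧ d = 0 := by
  obtain ⟨x, hx⟩ := IsAlgClosed.exists_pow_nat_eq a (n := 2) (by norm_num)
  by_cases hx0 : x = 0
  · have ha : a = 0 := by rw [← hx, hx0]; ring
    have hb : b = 0 := by
      rw [ha] at hc
      have : b ^ 2 = 0 := by rw [hc]; ring
      exact pow_eq_zero_iff (two_ne_zero) |>.mp this
    refine ⟨ha, hb, ?_⟩
    rw [ha, hb] at hr
    simp only [zero_smul, zero_add] at hr
    rcases smul_eq_zero.mp hr with hd | hn
    · exact hd
    · exfalso
      refine h 0 1 (Or.inr one_ne_zero) ?_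
      simp [hn]
  · exfalso
    refine h x (b / (2 * x)) (Or.inl hx0) ?_
    have e1 : 2 * (x * (b / (2 * x))) = b := by field_simp
    have e2 : (b / (2 * x)) ^ 2 = d := by
      rw [div_pow, div_eq_iff (pow_ne_zero _ (mul_ne_zero two_ne_zero hx0)), hc, mul_pow, hx]
      ring
    rw [e1, e2, hx, hr]

theorem rel_dep {a b d a' b' d' : L} (hr : a • l + b • m + d • n = 0) (hr' : a' • l + b' • m + d' • n = 0) :
    ∃ s t : L, (s ≠ 0 ∨ t ≠ 0) ∧ s * a + t * a' = 0 ∧ s * b + t * b' = 0 ∧ s * d + t * d' = 0 := by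
  obtain ⟨s, t, hst, e⟩ := K714.Surf.exists_quad_zero (b ^ 2 - 4 * (a * d)) (2 * b * b' - 4 * (a * d' + a' * d))
    (b' ^ 2 - 4 * (a' * d'))
  refine ⟨s, t, hst, rel_conic h (a := s * a + t * a') (b := s * b + t * b') (d := s * d + t * d')
    (by linear_combination e) ?_⟩
  have : (s * a + t * a') • l + (s * b + t * b') • m + (s * d + t * d') • n =
    s • (a • l + b • m + d • n) + t • (a' • l + b' • m + d' • n) := by module
  rw [this, hr, hr']
  simp

theorem la1 {a b s r : L} (h1 : (2 * a) • m + b • n = s • l) (h2 : a • l + (2 * b) • m = r • n) :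
    a = 0 ∧ b = 0 := by
  have r1 : (-s) • l + (2 * a) • m + b • n = 0 := by
    have : (-s) • l + (2 * a) • m + b • n = ((2 * a) • m + b • n) - s • l := by module
    rw [this, h1, sub_self]
  have r2 : a • l + (2 * b) • m + (-r) • n = 0 := by
    have : a • l + (2 * b) • m + (-r) • n = (a • l + (2 * b) • m) - r • n := by module
    rw [this, h2, sub_self]
  obtain ⟨x, y, hxy, e1, e2, e3⟩ := rel_dep h r1 r2
  have h3 : (2 * a) ^ 2 = 4 * (-s * b) := by
    by_cases hy : y = 0
    · subst hy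
      have hx : x ≠ 0 := by simpa using hxy
      have k1 : s = 0 := by simpa [hx] using e1
      have k2 : a = 0 := by simpa [hx] using e2
      rw [k1, k2]; ring
    · apply mul_left_cancel₀ hy
      linear_combination (4 * a) * e1 + (2 * s) * e2
  have h4 := rel_conic h h3 r1
  refine ⟨?_, h4.2.2⟩
  have := h4.2.1
  simpa using this

theorem la3 {a b s t : L} (h1 : a • n = s • l + (2 * t) • m) (h2 : (2 * a) • m + b • n = t • l) :
    a = 0 ∧ b = 0 := by
  have r1 : (-s) • l + (-(2 * t)) • m + a • n = 0 := by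
    rw [h1]; module
  have r2 : (-t) • l + (2 * a) • m + b • n = 0 := by
    have : (-t) • l + (2 * a) • m + b • n = ((2 * a) • m + b • n) - t • l := by module
    rw [this, h2, sub_self]
  obtain ⟨x, y, hxy, e1, e2, e3⟩ := rel_dep h r1 r2
  have h3 : (-(2 * t)) ^ 2 = 4 * (-s * a) := by
    by_cases hy : y = 0
    · subst hy
      have hx : x ≠ 0 := by simpa using hxy
      have k1 : s = 0 := by simpa [hx] using e1
      have k2 : t = 0 := by simpa [hx] using e2
      rw [k1, k2]; ring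
    · apply mul_left_cancel₀ hy
      linear_combination (-4 * t) * e1 + (2 * s) * e2
  have h4 := rel_conic h h3 r1
  have ha : a = 0 := h4.2.2
  have ht : t = 0 := by simpa using h4.2.1
  subst ha ht
  have h5 := rel_conic h (a := 0) (b := 0) (d := b) (by ring) (by simpa using h2)
  exact ⟨rfl, h5.2.2⟩

end LA

end K304.ChordSimp
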