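import Groth.Agent.Fano.K304.ChordBase
import Mathlib.RingTheory.Polynomial.DegreeLT
import Mathlib.LinearAlgebra.Dimension.Constructions

/-!
# Rational quartics on a cubic threefold: surjectivity

If `α, β, γ` (see `ChordBase`) are linearly independent and without common zero then the map
`w₀ + x w₁ + x² w₂ ↦ T (c x) (c x) (w₀ + x w₁ + x² w₂)` is onto the polynomials of degree at most `10`.
-/

set_option autoImplicit false
set_option linter.unusedSimpArgs false

universe u v

namespace K304.ChordSurj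

open Polynomial K656.Trilin K304.ChordBase Module

variable {L : Type u} [Field L]

/-! ### Polynomials -/

/-- Descent. -/
theorem descent {P Q R : L[X]} (hP : P.natDegree = 6) (hPQ : IsCoprime P Q) {a b : ℕ → L[X]}
    (ha : ∀ j, (a j).natDegree ≤ 4) (hb : ∀ j, (b j).natDegree ≤ 4)
    (h : ∀ j ≤ 4, X ^ j * R = a j * P + b j * Q) :
    ∀ j ≤ 4, a j = X ^ j * a 0 ∧ b j = X ^ j * b 0 := by
  have hP0 : P ≠ 0 := by rintro rfl; simp at hP
  have hQ0 : Q ≠ 0 := by
    rintro rfl
    have h1 := isCoprime_zero_right.mp hPQ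
    have := natDegree_eq_zero_of_isUnit h1
    omega
  intro j
  induction j with
  | zero => intro _; simp
  | succ j ih =>
    intro hj
    obtain ⟨h1, h2⟩ := ih (by omega)
    have h3 := h (j + 1) hj
    have h4 := h 0 (by omega)
    simp only [pow_zero, one_mul] at h4
    have h5 : (X * a j - a (j + 1)) * P = (b (j + 1) - X * b j) * Q := by
      rw [h1, h2]
      rw [h4] at h3
      linear_combination h3
    have h6 : P ∣ b (j + 1) - X * b j := by
      refine hPQ.dvd_of_dvd_mul_right ?_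
      exact ⟨X * a j - a (j + 1), by rw [← h5]; ring⟩
    have h7 : b (j + 1) - X * b j = 0 := by
      refine eq_zero_of_dvd_of_natDegree_lt h6 ?_
      have e1 : (X * b j).natDegree ≤ 5 := by
        refine (natDegree_mul_le).trans ?_
        have := hb j
        have := natDegree_X_le (R := L)
        omega
      have := (natDegree_sub_le_of_le (hb (j + 1)) e1)
      omega
    have h8 : X * a j - a (j + 1) = 0 := by
      rw [h7, zero_mul] at h5
      exact (mul_eq_zero.mp h5).resolve_right hP0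
    constructor
    · rw [← sub_eq_zero.mp h8, h1]; ring
    · rw [sub_eq_zero.mp h7, h2]; ring

theorem mem_LT {n : ℕ} {f : L[X]} : f ∈ degreeLT L (n + 1) ↔ f.natDegree ≤ n := by
  rw [degreeLT_succ_eq_degreeLE, mem_degreeLE]
  exact natDegree_le_iff_degree_le.symm

theorem finrank_LT (n : ℕ) : finrank L ↥(degreeLT L n) = n := by
  rw [(degreeLTEquiv L n).finrank_eq, finrank_fin_fun]

theorem exists_comb {P Q R : L[X]} (hP : P.natDegree = 6) (hPQ : IsCoprime P Q) (hQ : Q.natDegree ≤ 6)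
    (hR : R.natDegree ≤ 6) (hne : ∀ a b : L, R ≠ C a * P + C b * Q) {F : L[X]} (hF : F.natDegree ≤ 10) :
    ∃ a b d : L[X], a.natDegree ≤ 4 ∧ b.natDegree ≤ 4 ∧ d.natDegree ≤ 4 ∧ F = a * P + b * Q + d * R := by
  have hP0 : P ≠ 0 := by rintro rfl; simp at hP
  have hQ0 : Q ≠ 0 := by
    rintro rfl
    have h1 := isCoprime_zero_right.mp hPQ
    have := natDegree_eq_zero_of_isUnit h1
    omega
  let Φ : (↥(degreeLT L 5) × ↥(degreeLT L 5)) →ₗ[L] L[X] :=
    ((LinearMap.mulRight L P).comp (degreeLT L 5).subtype).coprod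
      ((LinearMap.mulRight L Q).comp (degreeLT L 5).subtype)
  have hΦ : ∀ p, Φ p = p.1.1 * P + p.2.1 * Q := fun p => by simp [Φ]
  have hinj : Function.Injective Φ := by
    rw [← LinearMap.ker_eq_bot, LinearMap.ker_eq_bot']
    rintro ⟨⟨a, ha⟩, ⟨b, hb⟩⟩ hab
    rw [hΦ] at hab
    simp only at hab
    have h1 : P ∣ b := hPQ.dvd_of_dvd_mul_right ⟨-a, by linear_combination hab⟩
    have h2 : b = 0 := eq_zero_of_dvd_of_natDegree_lt h1 (by have := mem_LT.mp hb; omega)
    have h3 : a = 0 := by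
      rw [h2, zero_mul, add_zero] at hab
      exact (mul_eq_zero.mp hab).resolve_right hP0
    subst h2 h3
    rfl
  have hrk : finrank L ↥(LinearMap.range Φ) = 10 := by
    rw [LinearMap.finrank_range_of_inj hinj, Module.finrank_prod, finrank_LT]
  have hle : LinearMap.range Φ ≤ degreeLT L 11 := by
    rintro _ ⟨p, rfl⟩
    rw [mem_LT, hΦ]
    have h1 := mem_LT.mp p.1.2
    have h2 := mem_LT.mp p.2.2
    refine natDegree_add_le_of_degree_le ?_ ?_
    · exact natDegree_mul_le.trans (by omega)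
    · exact natDegree_mul_le.trans (by omega)
  obtain ⟨j, hj, hjR⟩ : ∃ j ≤ 4, X ^ j * R ∉ LinearMap.range Φ := by
    by_contra hc
    push Not at hc
    have hc' : ∀ j : ℕ, ∃ p : ↥(degreeLT L 5) × ↥(degreeLT L 5), j ≤ 4 → Φ p = X ^ j * R := by
      intro j
      by_cases hj : j ≤ 4
      · obtain ⟨p, hp⟩ := hc j hj
        exact ⟨p, fun _ => hp⟩
      · exact ⟨0, fun h => absurd h hj⟩
    choose p hp using hc'
    have h1 := descent (a := fun j => (p j).1.1) (b := fun j => (p j).2.1) hP hPQ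
      (fun j => mem_LT.mp (p j).1.2) (fun j => mem_LT.mp (p j).2.2)
      (fun j hj => by rw [← hp j hj, hΦ])
    obtain ⟨h2, h3⟩ := h1 4 le_rfl
    have hdeg : ∀ f g : L[X], g.natDegree ≤ 4 → g = X ^ 4 * f → ∃ a : L, f = C a := by
      intro f g hg e
      by_cases hf : f = 0
      · exact ⟨0, by simp [hf]⟩
      · rw [e, natDegree_mul (pow_ne_zero _ X_ne_zero) hf, natDegree_X_pow] at hg
        exact ⟨f.coeff 0, eq_C_of_natDegree_eq_zero (by omega)⟩
    obtain ⟨a, ha⟩ := hdeg _ _ (mem_LT.mp (p 4).1.2) h2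
    obtain ⟨b, hb⟩ := hdeg _ _ (mem_LT.mp (p 4).2.2) h3
    refine hne a b ?_
    have h4 := hp 0 (by omega)
    rw [hΦ, pow_zero, one_mul] at h4
    rw [← h4, ha, hb]
  let R' : L[X] := X ^ j * R
  let W : Submodule L L[X] := LinearMap.range Φ ⊔ Submodule.span L {R'}
  have hW : W = degreeLT L 11 := by
    have h1 : W ≤ degreeLT L 11 := by
      refine sup_le hle ?_
      rw [Submodule.span_singleton_le_iff_mem, mem_LT]
      refine natDegree_mul_le.trans ?_
      have := natDegree_X_pow_le (R := L) j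
      omega
    have h2 : LinearMap.range Φ < W := by
      refine lt_of_le_of_ne le_sup_left fun h => hjR ?_
      rw [h]
      exact Submodule.mem_sup_right (Submodule.mem_span_singleton_self _)
    have : FiniteDimensional L ↥W := Submodule.finiteDimensional_of_le h1
    have h3 := Submodule.finrank_lt_finrank_of_lt h2
    refine Submodule.eq_of_le_of_finrank_le h1 ?_
    rw [finrank_LT]
    omega
  have hFW : F ∈ W := by rw [hW, mem_LT]; exact hF
  obtain ⟨_, ⟨p, rfl⟩, z, hz, e⟩ := Submodule.mem_sup.mp hFW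
  obtain ⟨t, rfl⟩ := Submodule.mem_span_singleton.mp hz
  refine ⟨p.1.1, p.2.1, C t * X ^ j, mem_LT.mp p.1.2, mem_LT.mp p.2.2, ?_, ?_⟩
  · exact (natDegree_C_mul_X_pow_le _ _).trans hj
  · rw [← e, hΦ, smul_eq_C_mul]
    ring

/-- the net `α + β t + γ t²` -/
theorem exists_comb3 [IsAlgClosed L] {α β γ : L[X]} (hα : α.natDegree ≤ 6) (hβ : β.natDegree ≤ 6)
    (hγ : γ.natDegree ≤ 6) (h1 : ∀ x, ¬ (α.eval x = 0 ∧ β.eval x = 0 ∧ γ.eval x = 0))
    (htop : ¬ (α.coeff 6 = 0 ∧ β.coeff 6 = 0 ∧ γ.coeff 6 = 0))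
    (hli : ∀ a b d : L, C a * α + C b * β + C d * γ = 0 → a = 0 ∧ b = 0 ∧ d = 0)
    {F : L[X]} (hF : F.natDegree ≤ 10) :
    ∃ a b d : L[X], a.natDegree ≤ 4 ∧ b.natDegree ≤ 4 ∧ d.natDegree ≤ 4 ∧ F = a * α + b * β + d * γ := by
  classical
  have quad : ∀ a b d : L, ¬ (a = 0 ∧ b = 0 ∧ d = 0) → C a + C b * X + C d * X ^ 2 ≠ (0 : L[X]) := by
    intro a b d h e
    apply h
    have e0 := congrArg (fun f : L[X] => f.coeff 0) e
    have e1 := congrArg (fun f : L[X] => f.coeff 1) e
    have e2 := congrArg (fun f : L[X] => f.coeff 2) e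
    simp [coeff_X, coeff_C] at e0 e1 e2
    exact ⟨e0, e1, e2⟩
  have pick : ∀ f : L[X], f ≠ 0 → ∃ t, f.eval t ≠ 0 := by
    intro f hf
    by_contra hc
    push Not at hc
    exact hf (Polynomial.funext fun t => by rw [hc t, eval_zero])
  let N : L → L[X] := fun t => α + C t * β + C (t ^ 2) * γ
  have hN : ∀ t, (N t).natDegree ≤ 6 := by
    intro t
    simp only [N]
    refine natDegree_add_le_of_degree_le (natDegree_add_le_of_degree_le hα ?_) ?_
    · exact (natDegree_C_mul_le _ _).trans hβ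
    · exact (natDegree_C_mul_le _ _).trans hγ
  obtain ⟨t, ht⟩ := pick _ (quad _ _ _ htop)
  have hP : (N t).natDegree = 6 := by
    refine le_antisymm (hN t) (le_natDegree_of_ne_zero ?_)
    intro h
    apply ht
    simp only [N, coeff_add, coeff_C_mul] at h
    simp only [eval_add, eval_mul, eval_C, eval_X, eval_pow]
    linear_combination h
  have hP0 : N t ≠ 0 := by intro h; rw [h] at hP; simp at hP
  obtain ⟨s, hs⟩ := pick ((X - C t) * ((N t).roots.toFinset.prod fun x =>
    (C (α.eval x) + C (β.eval x) * X + C (γ.eval x) * X ^ 2))) (by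
      refine mul_ne_zero (X_sub_C_ne_zero t) (Finset.prod_ne_zero_iff.mpr fun x _ => quad _ _ _ (h1 x)))
  rw [eval_mul, eval_prod] at hs
  have hst : s ≠ t := by
    intro h
    apply hs
    simp [h]
  have hco : IsCoprime (N t) (N s) := by
    refine (Polynomial.isCoprime_iff_aeval_ne_zero_of_isAlgClosed (k := L) L (N t) (N s)).mpr fun x => ?_
    by_cases hx : aeval x (N t) = 0
    · right
      have hx' : x ∈ (N t).roots.toFinset := by
        rw [Multiset.mem_toFinset, mem_roots hP0]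
        simpa using hx
      have h2 := Finset.prod_ne_zero_iff.mp (right_ne_zero_of_mul hs) x hx'
      intro h3
      apply h2
      simp [N] at h3 ⊢
      linear_combination h3
    · exact Or.inl hx
  obtain ⟨r, hr⟩ := pick ((X - C t) * (X - C s)) (mul_ne_zero (X_sub_C_ne_zero _) (X_sub_C_ne_zero _))
  have hne : ∀ a b : L, N r ≠ C a * N t + C b * N s := by
    intro a b h
    have h2 := hli (1 - a - b) (r - a * t - b * s) (r ^ 2 - a * t ^ 2 - b * s ^ 2) (by
      simp only [N] at h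
      simp only [C_sub, C_mul, C_1, C_pow] at h ⊢
      linear_combination h)
    obtain ⟨e0, e1, e2⟩ := h2
    apply hr
    simp only [eval_mul, eval_sub, eval_X, eval_C]
    linear_combination e2 - (t + s) * e1 + t * s * e0
  obtain ⟨a, b, d, ha, hb, hd, e⟩ := exists_comb hP hco (hN s) (hN r) hne hF
  refine ⟨a + b + d, C t * a + C s * b + C r * d, C (t ^ 2) * a + C (s ^ 2) * b + C (r ^ 2) * d, ?_, ?_, ?_, ?_⟩
  · exact natDegree_add_le_of_degree_le (natDegree_add_le_of_degree_le ha hb) hd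
  · refine natDegree_add_le_of_degree_le (natDegree_add_le_of_degree_le ?_ ?_) ?_
    · exact (natDegree_C_mul_le _ _).trans ha
    · exact (natDegree_C_mul_le _ _).trans hb
    · exact (natDegree_C_mul_le _ _).trans hd
  · refine natDegree_add_le_of_degree_le (natDegree_add_le_of_degree_le ?_ ?_) ?_
    · exact (natDegree_C_mul_le _ _).trans ha
    · exact (natDegree_C_mul_le _ _).trans hb
    · exact (natDegree_C_mul_le _ _).trans hd
  · rw [e]
    simp only [N]
    ring

/-! ### The trilinear form -/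

variable {V : Type v} [AddCommGroup V] [Module L V] {T : V →ₗ[L] V →ₗ[L] V →ₗ[L] L}

theorem cv_ne_zero {c : Fin 5 → V} (hli : LinearIndependent L c) (x : L) : cv c x ≠ 0 := by
  intro h
  have h1 := Fintype.linearIndependent_iff.mp hli (fun m => x ^ (m : ℕ)) h 0
  simp at h1

section

variable [CharZero L] (hT : IsSym3 T) {c : Fin 5 → V} (h0 : ∀ x : L, T (cv c x) (cv c x) (cv c x) = 0)
  (hsm : ∀ v : V, v ≠ 0 → ∃ w, T v v w ≠ 0) (hli : LinearIndependent L c)
  (hsp : Submodule.span L (Set.range c) = ⊤)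

include hsp in
omit [CharZero L] in
theorem ext_c {f : V →ₗ[L] L} (h : ∀ m, f (c m) = 0) : f = 0 := by
  refine LinearMap.ext_on_range hsp fun m => ?_
  rw [h m, LinearMap.zero_apply]

include hT h0

theorem coeff_al : (al T c).coeff 6 = T (c 4) (c 4) (c 0) := by
  rw [← coeff_lam_eight (T := T) c (c 0), lam0 hT h0]
  rw [show (8 : ℕ) = 6 + 2 from rfl, coeff_X_pow_mul]

theorem coeff_be : (be T c).coeff 6 = T (c 4) (c 4) (c 1) := by
  rw [← coeff_lam_eight (T := T) c (c 1), lam1 hT h0]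
  rw [coeff_sub, show (8 : ℕ) = 6 + 2 from rfl, coeff_X_pow_mul, coeff_C_mul,
    show (6 + 2 : ℕ) = 7 + 1 from rfl, coeff_X_mul]
  rw [coeff_eq_zero_of_natDegree_lt (p := al T c) (by have := natDegree_al hT h0; omega)]
  ring

theorem coeff_ga : (ga T c).coeff 6 = T (c 4) (c 4) (c 2) := by
  rw [← coeff_lam_eight (T := T) c (c 2), lam2]
  rw [coeff_add, coeff_sub, show (8 : ℕ) = 6 + 2 from rfl, coeff_X_pow_mul, coeff_C_mul,
    show (6 + 2 : ℕ) = 7 + 1 from rfl, coeff_X_mul]
  rw [coeff_eq_zero_of_natDegree_lt (p := al T c) (by have := natDegree_al hT h0; omega),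
    coeff_eq_zero_of_natDegree_lt (p := be T c) (by have := natDegree_be hT h0; omega)]
  ring

theorem T443 : T (c 4) (c 4) (c 3) = 0 := by
  rw [← coeff_lam_eight (T := T) c (c 3), lam3]
  rw [coeff_sub, coeff_C_mul, show (8 : ℕ) = 7 + 1 from rfl, coeff_X_mul]
  rw [coeff_eq_zero_of_natDegree_lt (p := ga T c) (by have := natDegree_ga hT h0; omega),
    coeff_eq_zero_of_natDegree_lt (p := be T c) (by have := natDegree_be hT h0; omega)]
  ring

theorem T444 : T (c 4) (c 4) (c 4) = 0 := by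
  rw [← coeff_lam_eight (T := T) c (c 4)]
  exact coeff_eq_zero_of_natDegree_lt (p := ga T c) (by have := natDegree_ga hT h0; omega)

/-- `γ₆ = - T c₃ c₃ c₄` -/
theorem coeff_ga' : (ga T c).coeff 6 = - T (c 3) (c 3) (c 4) := by
  have h1 := coeff_ga hT h0
  have h2 := coeff_lam_six hT c (c 4)
  rw [hT.s13 (c 2)] at h2
  change (ga T c).coeff 6 = _ at h2
  linear_combination 2 * h1 - h2

include hsm hli hsp

theorem no_zero (x : L) : ¬ ((al T c).eval x = 0 ∧ (be T c).eval x = 0 ∧ (ga T c).eval x = 0) := by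
  rintro ⟨h1, h2, h3⟩
  obtain ⟨w, hw⟩ := hsm _ (cv_ne_zero hli x)
  apply hw
  have : T (cv c x) (cv c x) = 0 := by
    refine ext_c hsp fun m => ?_
    fin_cases m
    · change T (cv c x) (cv c x) (c 0) = 0
      rw [e0 hT h0, h1]; ring
    · change T (cv c x) (cv c x) (c 1) = 0
      rw [e1 hT h0, h1, h2]; ring
    · change T (cv c x) (cv c x) (c 2) = 0
      rw [e2, h1, h2, h3]; ring
    · change T (cv c x) (cv c x) (c 3) = 0
      rw [e3, h2, h3]; ring
    · change T (cv c x) (cv c x) (c 4) = 0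
      rw [e4, h3]
  rw [this, LinearMap.zero_apply]

theorem no_zero_top : ¬ ((al T c).coeff 6 = 0 ∧ (be T c).coeff 6 = 0 ∧ (ga T c).coeff 6 = 0) := by
  rintro ⟨h1, h2, h3⟩
  obtain ⟨w, hw⟩ := hsm _ (hli.ne_zero 4)
  apply hw
  rw [coeff_al hT h0] at h1
  rw [coeff_be hT h0] at h2
  rw [coeff_ga hT h0] at h3
  have : T (c 4) (c 4) = 0 := by
    refine ext_c hsp fun m => ?_
    fin_cases m
    · exact h1
    · exact h2
    · exact h3
    · exact T443 hT h0
    · exact T444 hT h0
  rw [this, LinearMap.zero_apply]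

end

/-- The polynomials `T (c x) (c x) (w₀ + x w₁ + x² w₂)`. -/
def Q2 (T : V →ₗ[L] V →ₗ[L] V →ₗ[L] L) (c : Fin 5 → V) : Set L[X] :=
  {F | ∃ w0 w1 w2 : V, ∀ x, T (cv c x) (cv c x) (w0 + x • w1 + x ^ 2 • w2) = F.eval x}

theorem Q2_add {c : Fin 5 → V} {F F' : L[X]} (h : F ∈ Q2 T c) (h' : F' ∈ Q2 T c) : F + F' ∈ Q2 T c := by
  obtain ⟨w0, w1, w2, hw⟩ := h
  obtain ⟨w0', w1', w2', hw'⟩ := h'
  refine ⟨w0 + w0', w1 + w1', w2 + w2', fun x => ?_⟩
  rw [eval_add, ← hw, ← hw', ← map_add]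
  congr 1
  module

theorem Q2_smul {c : Fin 5 → V} {F : L[X]} (a : L) (h : F ∈ Q2 T c) : C a * F ∈ Q2 T c := by
  obtain ⟨w0, w1, w2, hw⟩ := h
  refine ⟨a • w0, a • w1, a • w2, fun x => ?_⟩
  rw [eval_mul, eval_C, ← hw, ← smul_eq_mul, ← map_smul]
  congr 1
  module

theorem Q2_zero {c : Fin 5 → V} : (0 : L[X]) ∈ Q2 T c := ⟨0, 0, 0, fun x => by simp⟩

theorem Q2_mul {c : Fin 5 → V} {F : L[X]} (h : ∀ j ≤ 4, X ^ j * F ∈ Q2 T c) {a : L[X]}
    (ha : a.natDegree ≤ 4) : a * F ∈ Q2 T c := by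
  rw [as_sum_range_C_mul_X_pow' a (n := 5) (by omega), Finset.sum_mul]
  have : ∀ s : Finset ℕ, s ⊆ Finset.range 5 → ∑ i ∈ s, C (a.coeff i) * X ^ i * F ∈ Q2 T c := by
    classical
    intro s
    induction s using Finset.induction_on with
    | empty => intro _; simpa using Q2_zero
    | insert i s his ih =>
      intro hs
      rw [Finset.sum_insert his]
      refine Q2_add ?_ (ih fun j hj => hs (Finset.mem_insert_of_mem hj))
      rw [mul_assoc]
      refine Q2_smul _ (h i ?_)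
      have := Finset.mem_range.mp (hs (Finset.mem_insert_self i s))
      omega
  exact this _ le_rfl

section

variable [CharZero L] (hT : IsSym3 T) {c : Fin 5 → V} (h0 : ∀ x : L, T (cv c x) (cv c x) (cv c x) = 0)
include hT h0

theorem mem_al : ∀ j ≤ 4, X ^ j * al T c ∈ Q2 T c := by
  intro j hj
  have r0 := e0 hT h0
  have r1 := e1 hT h0
  have r2 := e2 (T := T) c
  have r3 := e3 (T := T) c
  have r4 := e4 (T := T) c
  interval_cases j
  · refine ⟨c 2, (2 : L) • c 3, (3 : L) • c 4, fun x => ?_⟩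
    simp only [map_add, map_smul, smul_eq_mul, r0, r1, r2, r3, r4, eval_mul, eval_pow, eval_X]
    ring
  · refine ⟨(-(3 / 4) : L) • c 1, (-(1 / 2) : L) • c 2, (-(1 / 4) : L) • c 3, fun x => ?_⟩
    simp only [map_add, map_smul, smul_eq_mul, r0, r1, r2, r3, r4, eval_mul, eval_pow, eval_X]
    ring
  · refine ⟨c 0, 0, 0, fun x => ?_⟩
    simp only [smul_zero, map_zero, map_add, map_smul, smul_eq_mul, r0, r1, r2, r3, r4, eval_mul, eval_pow, eval_X]
    ring
  · refine ⟨0, c 0, 0, fun x => ?_⟩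
    simp only [smul_zero, map_zero, map_add, map_smul, smul_eq_mul, r0, r1, r2, r3, r4, eval_mul, eval_pow, eval_X]
    ring
  · refine ⟨0, 0, c 0, fun x => ?_⟩
    simp only [smul_zero, map_zero, map_add, map_smul, smul_eq_mul, r0, r1, r2, r3, r4, eval_mul, eval_pow, eval_X]
    ring

theorem mem_be : ∀ j ≤ 4, X ^ j * be T c ∈ Q2 T c := by
  intro j hj
  have r0 := e0 hT h0
  have r1 := e1 hT h0
  have r2 := e2 (T := T) c
  have r3 := e3 (T := T) c
  have r4 := e4 (T := T) c
  interval_cases j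
  · refine ⟨c 3, (2 : L) • c 4, 0, fun x => ?_⟩
    simp only [smul_zero, map_zero, map_add, map_smul, smul_eq_mul, r0, r1, r2, r3, r4, eval_mul, eval_pow, eval_X]
    ring
  · refine ⟨0, c 3, (2 : L) • c 4, fun x => ?_⟩
    simp only [smul_zero, map_zero, map_add, map_smul, smul_eq_mul, r0, r1, r2, r3, r4, eval_mul, eval_pow, eval_X]
    ring
  · refine ⟨(-(1 / 2) : L) • c 1, (-1 : L) • c 2, (-(1 / 2) : L) • c 3, fun x => ?_⟩
    simp only [smul_zero, map_zero, map_add, map_smul, smul_eq_mul, r0, r1, r2, r3, r4, eval_mul, eval_pow, eval_X]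
    ring
  · refine ⟨(2 : L) • c 0, c 1, 0, fun x => ?_⟩
    simp only [smul_zero, map_zero, map_add, map_smul, smul_eq_mul, r0, r1, r2, r3, r4, eval_mul, eval_pow, eval_X]
    ring
  · refine ⟨0, (2 : L) • c 0, c 1, fun x => ?_⟩
    simp only [smul_zero, map_zero, map_add, map_smul, smul_eq_mul, r0, r1, r2, r3, r4, eval_mul, eval_pow, eval_X]
    ring

theorem mem_ga : ∀ j ≤ 4, X ^ j * ga T c ∈ Q2 T c := by
  intro j hj
  have r0 := e0 hT h0
  have r1 := e1 hT h0
  have r2 := e2 (T := T) c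
  have r3 := e3 (T := T) c
  have r4 := e4 (T := T) c
  interval_cases j
  · refine ⟨c 4, 0, 0, fun x => ?_⟩
    simp only [smul_zero, map_zero, map_add, map_smul, smul_eq_mul, r0, r1, r2, r3, r4, eval_mul, eval_pow, eval_X]
    ring
  · refine ⟨0, c 4, 0, fun x => ?_⟩
    simp only [smul_zero, map_zero, map_add, map_smul, smul_eq_mul, r0, r1, r2, r3, r4, eval_mul, eval_pow, eval_X]
    ring
  · refine ⟨0, 0, c 4, fun x => ?_⟩
    simp only [smul_zero, map_zero, map_add, map_smul, smul_eq_mul, r0, r1, r2, r3, r4, eval_mul, eval_pow, eval_X]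
    ring
  · refine ⟨(-(1 / 4) : L) • c 1, (-(1 / 2) : L) • c 2, (-(3 / 4) : L) • c 3, fun x => ?_⟩
    simp only [smul_zero, map_zero, map_add, map_smul, smul_eq_mul, r0, r1, r2, r3, r4, eval_mul, eval_pow, eval_X]
    ring
  · refine ⟨(3 : L) • c 0, (2 : L) • c 1, c 2, fun x => ?_⟩
    simp only [smul_zero, map_zero, map_add, map_smul, smul_eq_mul, r0, r1, r2, r3, r4, eval_mul, eval_pow, eval_X]
    ring

theorem surj [IsAlgClosed L] (hsm : ∀ v : V, v ≠ 0 → ∃ w, T v v w ≠ 0) (hli : LinearIndependent L c)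
    (hsp : Submodule.span L (Set.range c) = ⊤)
    (hind : ∀ a b d : L, C a * al T c + C b * be T c + C d * ga T c = 0 → a = 0 ∧ b = 0 ∧ d = 0)
    {F : L[X]} (hF : F.natDegree ≤ 10) : F ∈ Q2 T c := by
  obtain ⟨a, b, d, ha, hb, hd, e⟩ := exists_comb3 (natDegree_al hT h0) (natDegree_be hT h0)
    (natDegree_ga hT h0) (no_zero hT h0 hsm hli hsp) (no_zero_top hT h0 hsm hli hsp) hind hF
  rw [e]
  exact Q2_add (Q2_add (Q2_mul (mem_al hT h0) ha) (Q2_mul (mem_be hT h0) hb)) (Q2_mul (mem_ga hT h0) hd)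

end

end K304.ChordSurj
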